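import Cfsg.Agent.Lib.KnownB.Aut.Graphs
import Cfsg.Agent.Lib.Chevalley.Data.SmithCerts

/-!
The orders of the outer automorphism groups.
-/

set_option autoImplicit false
set_option maxRecDepth 100000
set_option Elab.async false

namespace CfsgLib.KnownB.Aut

open CfsgLib.Chevalley CfsgLib.Chevalley.Tbl

theorem perm_of_list {n : ℕ} {π π' : Equiv.Perm (Fin n)}
    (h : List.ofFn (fun i => (π i).val) = List.ofFn (fun i => (π' i).val)) : π = π' :=
  Equiv.ext fun i => Fin.ext (congrFun (List.ofFn_injective h) i)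

theorem g2_syms {π : Equiv.Perm (Fin Data.G2.tbl.rank)} (h : AdjPres Data.G2.tbl π) : π = 1 ∨ π = piG2 := by
  have := diagG2.mem_syms h
  simp only [diagG2, List.mem_cons, List.not_mem_nil, or_false] at this
  exact this.imp (fun e => perm_of_list (e.trans (by decide +kernel)))
    (fun e => perm_of_list (e.trans (by decide +kernel)))

theorem f4_syms {π : Equiv.Perm (Fin Data.F4.tbl.rank)} (h : AdjPres Data.F4.tbl π) : π = 1 ∨ π = piF4 := by
  have := diagF4.mem_syms h
  simp only [diagF4, List.mem_cons, List.not_mem_nil, or_false] at this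
  exact this.imp (fun e => perm_of_list (e.trans (by decide +kernel)))
    (fun e => perm_of_list (e.trans (by decide +kernel)))

theorem e6_syms {π : Equiv.Perm (Fin Data.E6.tbl.rank)} (h : AdjPres Data.E6.tbl π) : π = 1 ∨ π = piE6 := by
  have := diagE6.mem_syms h
  simp only [diagE6, List.mem_cons, List.not_mem_nil, or_false] at this
  exact this.imp (fun e => perm_of_list (e.trans (by decide +kernel)))
    (fun e => perm_of_list (e.trans (by decide +kernel)))

theorem e7_syms {π : Equiv.Perm (Fin Data.E7.tbl.rank)} (h : AdjPres Data.E7.tbl π) : π = 1 := by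
  have := diagE7.mem_syms h
  simp only [diagE7, List.mem_cons, List.not_mem_nil, or_false] at this
  exact perm_of_list (this.trans (by decide +kernel))

theorem e8_syms {π : Equiv.Perm (Fin Data.E8.tbl.rank)} (h : AdjPres Data.E8.tbl π) : π = 1 := by
  have := diagE8.mem_syms h
  simp only [diagE8, List.mem_cons, List.not_mem_nil, or_false] at this
  exact perm_of_list (this.trans (by decide +kernel))

variable {F : Type*} [Field F] [Fintype F] (p f : ℕ) [Fact p.Prime] [CharP F p]
  (hF : Fintype.card F = p ^ f)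
include hF

theorem out_e8 : Nat.card (Cfsg.Out ↥(Data.E8.tbl.datum.group F)) = f := by
  rw [card_out Data.E8.valid Data.E8.chkComm diagE8 p hF Data.E8.chkSmith {1}
    (fun π h _ => e8_syms h) (by rintro π rfl; exact exists_graph_one Data.E8.valid diagE8 p),
    Nat.card_eq_fintype_card (α := ({1} : Set (Equiv.Perm (Fin Data.E8.tbl.rank))))]
  simp only [Fintype.card_unique, one_mul]
  show f * ∏ i : Fin 8, Nat.gcd (p ^ f - 1) _ = f
  simp [Fin.prod_univ_succ]

theorem out_e7 : Nat.card (Cfsg.Out ↥(Data.E7.tbl.datum.group F)) = Nat.gcd 2 (p ^ f - 1) * f := by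
  rw [card_out Data.E7.valid Data.E7.chkComm diagE7 p hF Data.E7.chkSmith {1}
    (fun π h _ => e7_syms h) (by rintro π rfl; exact exists_graph_one Data.E7.valid diagE7 p),
    Nat.card_eq_fintype_card (α := ({1} : Set (Equiv.Perm (Fin Data.E7.tbl.rank))))]
  simp only [Fintype.card_unique, one_mul]
  show f * ∏ i : Fin 7, Nat.gcd (p ^ f - 1) _ = _
  simp [Fin.prod_univ_succ, Nat.gcd_comm, mul_comm]

theorem out_e6 : Nat.card (Cfsg.Out ↥(Data.E6.tbl.datum.group F)) = 2 * Nat.gcd 3 (p ^ f - 1) * f := by
  have h2 : Nat.card ({1, piE6} : Set (Equiv.Perm (Fin Data.E6.tbl.rank))) = 2 := by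
    rw [Nat.card_coe_set_eq, Set.ncard_pair]
    decide +kernel
  rw [card_out Data.E6.valid Data.E6.chkComm diagE6 p hF Data.E6.chkSmith {1, piE6}
    (fun π h _ => e6_syms h) (by
      rintro π (rfl | rfl)
      · exact exists_graph_one Data.E6.valid diagE6 p
      · exact graph_e6 p), h2]
  show 2 * f * ∏ i : Fin 6, Nat.gcd (p ^ f - 1) _ = _
  simp [Fin.prod_univ_succ, Nat.gcd_comm]
  ring

theorem out_f4 : Nat.card (Cfsg.Out ↥(Data.F4.tbl.datum.group F)) = Nat.gcd 2 p * f := by
  have hp2 : ∀ π, SwapOK diagF4 F π → π = piF4 → p = 2 := by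
    intro π h e
    subst e
    have h1 := h ⟨1, by decide +kernel⟩ ⟨2, by decide +kernel⟩ (by decide +kernel) (by decide +kernel)
      (by decide +kernel) (by decide +kernel) (by decide +kernel) 1 1
    change ((1 : F) + 1) ^ 2 = 1 ^ 2 + 1 ^ 2 at h1
    have h2 : ((2 : ℕ) : F) = 0 := by push_cast; linear_combination h1
    exact (Nat.prime_dvd_prime_iff_eq Fact.out Nat.prime_two).mp ((CharP.cast_eq_zero_iff F p 2).mp h2)
  by_cases hp : p = 2
  · subst hp
    have h2 : Nat.card ({1, piF4} : Set (Equiv.Perm (Fin Data.F4.tbl.rank))) = 2 := by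
      rw [Nat.card_coe_set_eq, Set.ncard_pair]
      decide +kernel
    rw [card_out Data.F4.valid Data.F4.chkComm diagF4 2 hF Data.F4.chkSmith {1, piF4}
      (fun π h _ => f4_syms h) (by
        rintro π (rfl | rfl)
        · exact exists_graph_one Data.F4.valid diagF4 2
        · exact graph_f4), h2]
    show 2 * f * ∏ i : Fin 4, Nat.gcd (2 ^ f - 1) _ = _
    simp [Fin.prod_univ_succ]
  · rw [card_out Data.F4.valid Data.F4.chkComm diagF4 p hF Data.F4.chkSmith {1}
      (fun π h hs => (f4_syms h).resolve_right fun e => hp (hp2 π hs e))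
      (by rintro π rfl; exact exists_graph_one Data.F4.valid diagF4 p),
      Nat.card_eq_fintype_card (α := ({1} : Set (Equiv.Perm (Fin Data.F4.tbl.rank))))]
    simp only [Fintype.card_unique, one_mul]
    have hg : Nat.gcd 2 p = 1 := (Nat.coprime_primes Nat.prime_two Fact.out).mpr (Ne.symm hp)
    show f * ∏ i : Fin 4, Nat.gcd (p ^ f - 1) _ = _
    simp [Fin.prod_univ_succ, hg]

theorem out_g2 (hq : 3 ≤ p ^ f) :
    Nat.card (Cfsg.Out ↥(Data.G2.tbl.datum.group F)) = if p = 3 then 2 * f else f := by
  have hp3 : ∀ π, SwapOK diagG2 F π → π = piG2 → p = 3 := by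
    intro π h e
    subst e
    have hadd := h ⟨0, by decide +kernel⟩ ⟨1, by decide +kernel⟩ (by decide +kernel) (by decide +kernel)
      (by decide +kernel) (by decide +kernel) (by decide +kernel)
    have hpow := pow_m_eq (F := F) p (m := 3) (Or.inr rfl) hadd
    have h1 : ((1 : F) + 1) ^ 3 = 1 ^ 3 + 1 ^ 3 := hadd 1 1
    have h2 : ((6 : ℕ) : F) = 0 := by push_cast; linear_combination h1
    have h6 : p ∣ 2 * 3 := (CharP.cast_eq_zero_iff F p 6).mp h2
    rcases (Fact.out : p.Prime).dvd_mul.mp h6 with h | h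
    · exfalso
      obtain rfl := (Nat.prime_dvd_prime_iff_eq (Fact.out : p.Prime) Nat.prime_two).mp h
      classical
      have hle : Fintype.card F ≤ 2 := by
        have : (Finset.univ : Finset F) ⊆ {0, 1} := fun x _ => by
          have h3 : x ^ 2 * (x - 1) = 0 := by linear_combination hpow x
          rcases mul_eq_zero.mp h3 with h4 | h4
          · simp [pow_eq_zero_iff two_ne_zero |>.mp h4]
          · simp [sub_eq_zero.mp h4]
        simpa using (Finset.card_le_card this).trans Finset.card_le_two
      omega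
    · exact (Nat.prime_dvd_prime_iff_eq (Fact.out : p.Prime) Nat.prime_three).mp h
  split_ifs with hp
  · subst hp
    have h2 : Nat.card ({1, piG2} : Set (Equiv.Perm (Fin Data.G2.tbl.rank))) = 2 := by
      rw [Nat.card_coe_set_eq, Set.ncard_pair]
      decide +kernel
    rw [card_out Data.G2.valid Data.G2.chkComm diagG2 3 hF Data.G2.chkSmith {1, piG2}
      (fun π h _ => g2_syms h) (by
        rintro π (rfl | rfl)
        · exact exists_graph_one Data.G2.valid diagG2 3
        · exact graph_g2), h2]
    show 2 * f * ∏ i : Fin 2, Nat.gcd (3 ^ f - 1) _ = _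
    simp
  · rw [card_out Data.G2.valid Data.G2.chkComm diagG2 p hF Data.G2.chkSmith {1}
      (fun π h hs => (g2_syms h).resolve_right fun e => hp (hp3 π hs e))
      (by rintro π rfl; exact exists_graph_one Data.G2.valid diagG2 p),
      Nat.card_eq_fintype_card (α := ({1} : Set (Equiv.Perm (Fin Data.G2.tbl.rank))))]
    simp only [Fintype.card_unique, one_mul]
    show f * ∏ i : Fin 2, Nat.gcd (p ^ f - 1) _ = _
    simp

end CfsgLib.KnownB.Aut
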