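import Cfsg.Agent.Lib.KnownB.Aut.Rank1

/-!
The action of a normalised automorphism on the fundamental root subgroups and their opposites.
-/

set_option autoImplicit false

namespace CfsgLib.KnownB.Aut

open CfsgLib.Chevalley CfsgLib.Chevalley.Tbl

variable {T : Tbl} {F : Type*} [Field F] (hT : T.Valid) (hC : T.chkComm = true)
include hT hC

/-- The permutation of the nodes, common to both signs. -/
theorem exists_node_perm {θ : MulAut ↥(T.datum.group F)} (h : Norm θ) :
    ∃ π : Equiv.Perm (Fin T.rank), ∀ i,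
      (RX T F (T.simpF hT i)).map θ.toMonoidHom = RX T F (T.simpF hT (π i)) ∧
      (RX T F (T.negF (T.simpF hT i))).map θ.toMonoidHom = RX T F (T.negF (T.simpF hT (π i))) := by
  obtain ⟨π, hπ⟩ := exists_neg_perm hT hC h
  obtain ⟨π', hπ'⟩ := exists_pos_perm hT hC h
  refine ⟨π, fun i => ⟨?_, hπ i⟩⟩
  suffices π' i = π i by rw [hπ' i, this]
  by_contra hne
  obtain ⟨b, hb⟩ := π.surjective (π' i)
  have hib : i ≠ b := fun e => hne (by rw [← hb, e])
  refine not_commute_simple_neg (F := F) hT hC (π' i) ?_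
  obtain ⟨y, hy, ey⟩ := (hπ' i).ge ((mem_RX hT).mpr ⟨(1 : F), rfl⟩)
  obtain ⟨z, hz, ez⟩ := (hπ b).ge ((mem_RX hT).mpr ⟨(1 : F), rfl⟩)
  obtain ⟨t, rfl⟩ := (mem_RX hT).mp hy
  obtain ⟨u, rfl⟩ := (mem_RX hT).mp hz
  rw [hb] at ez
  rw [← ey, ← ez]
  exact (commute_simple_neg hT hC hib t u).map θ.toMonoidHom

omit hC in
theorem exists_coord {θ : MulAut ↥(T.datum.group F)} {r s : Fin T.n}
    (h : (RX T F r).map θ.toMonoidHom = RX T F s) :
    ∃ f : F ≃+ F, ∀ t, θ (xG hT r t) = xG hT s (f t) := by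
  have hex : ∀ t, ∃ u, θ (xG hT r t) = xG hT s u := fun t =>
    (mem_RX hT).mp (h.le ⟨_, (mem_RX hT).mpr ⟨t, rfl⟩, rfl⟩)
  choose f hf using hex
  have hadd : ∀ a b, f (a + b) = f a + f b := fun a b =>
    xG_inj hT (by rw [← hf, ← xG_add hT s, ← hf, ← hf, ← map_mul, xG_add])
  have hinj : Function.Injective f := fun a b e =>
    xG_inj hT (θ.injective ((hf a).trans ((congrArg (xG hT s) e).trans (hf b).symm)))
  have hsurj : Function.Surjective f := fun u => by
    obtain ⟨y, hy, e⟩ := h.ge ((mem_RX hT).mpr ⟨u, rfl⟩)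
    obtain ⟨t, rfl⟩ := (mem_RX hT).mp hy
    exact ⟨t, xG_inj hT ((hf t).symm.trans e)⟩
  exact ⟨AddEquiv.mk' (Equiv.ofBijective f ⟨hinj, hsurj⟩) hadd, hf⟩

omit hT hC in
theorem exists_two_squares [Finite F] (x : F) : ∃ a b : F, a ^ 2 + b ^ 2 = x := by
  classical
  have := Fintype.ofFinite F
  by_cases h2 : ringChar F = 2
  · obtain ⟨a, ha⟩ := FiniteField.isSquare_of_char_two h2 x
    exact ⟨a, 0, by rw [ha]; ring⟩
  · let f : Polynomial F := Polynomial.X ^ 2
    let g : Polynomial F := Polynomial.X ^ 2 - Polynomial.C x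
    obtain ⟨a, b, hab⟩ : ∃ a b, f.eval a + g.eval b = 0 :=
      FiniteField.exists_root_sum_quadratic (f := f) (g := g) (Polynomial.degree_X_pow 2)
        (Polynomial.degree_X_pow_sub_C (by decide) _) (FiniteField.odd_card_of_char_ne_two h2)
    refine ⟨a, b, ?_⟩
    rw [← sub_eq_zero]
    simpa only [f, g, Polynomial.eval_C, Polynomial.eval_X, Polynomial.eval_pow, Polynomial.eval_sub,
      ← add_sub_assoc] using hab

omit hC in
theorem hG_conj (i : Fin T.rank) (a : Fˣ) (k : Fin T.rank) (u : F) :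
    nG hT (T.simpF hT i) (a : F) * nG hT (T.simpF hT i) (-1) * xG hT (T.simpF hT k) u *
      (nG hT (T.simpF hT i) (a : F) * nG hT (T.simpF hT i) (-1))⁻¹ =
    xG hT (T.simpF hT k) (((a ^ T.ca i (T.simple k) : Fˣ) : F) * u) := by
  refine Subtype.ext ?_
  show T.hU F (T.simple i) a * T.xU F (T.simple k) u * (T.hU F (T.simple i) a)⁻¹ = _
  rw [hU_eq hT (simple_lt hT i.2), dU_hCh_xU hT (simple_lt hT i.2) a (simple_lt hT k.2),
    pair_simple hT i.2, mul_inv_cancel_right]
  rfl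

omit hC in
theorem nG_neg (r : Fin T.n) (a : F) : nG hT r (-a) = (nG hT r a)⁻¹ := by
  rw [nG, nG, _root_.mul_inv_rev, _root_.mul_inv_rev, xG_inv, xG_inv, inv_neg, mul_assoc]

omit hC in
theorem nG_div (r : Fin T.n) (a c : Fˣ) :
    nG hT r (a : F) * (nG hT r (c : F))⁻¹ = nG hT r ((a * c⁻¹ : Fˣ) : F) * (nG hT r (1 : F))⁻¹ := by
  refine Subtype.ext ?_
  show T.nU F r a * (T.nU F r c)⁻¹ = T.nU F r ((a * c⁻¹ : Fˣ) : F) * (T.nU F r 1)⁻¹
  rw [nU_t hT r.2, nU_t hT r.2 c, nU_t hT r.2 (a * c⁻¹), _root_.mul_inv_rev, ← mul_assoc,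
    mul_inv_cancel_right, mul_inv_cancel_right, dU_inv, dU_mul, mul_inv_eq_iff_eq_mul.mpr]
  rw [hCh_mul, inv_mul_cancel_right]

/-- On each node a normalised automorphism is a scaled field automorphism. -/
theorem exists_field_parts [Finite F] {θ : MulAut ↥(T.datum.group F)} {π : Equiv.Perm (Fin T.rank)}
    (hπ : ∀ i, (RX T F (T.simpF hT i)).map θ.toMonoidHom = RX T F (T.simpF hT (π i)) ∧
      (RX T F (T.negF (T.simpF hT i))).map θ.toMonoidHom = RX T F (T.negF (T.simpF hT (π i)))) :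
    ∃ (φ : Fin T.rank → F ≃+* F) (c : Fin T.rank → Fˣ),
      (∀ i t, θ (xG hT (T.simpF hT i) t) = xG hT (T.simpF hT (π i)) ((c i : F) * φ i t) ∧
        θ (xG hT (T.negF (T.simpF hT i)) t) =
          xG hT (T.negF (T.simpF hT (π i))) (((c i)⁻¹ : Fˣ) * φ i t)) ∧
      ∀ (i k : Fin T.rank) (t : Fˣ), (φ k t : F) ^ T.ca i (T.simple k) =
        (φ i t : F) ^ T.ca (π i) (T.simple (π k)) := by
  choose f hf using fun i => exists_coord hT (hπ i).1
  choose g hg using fun i => exists_coord hT (hπ i).2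
  have fne : ∀ i {t : F}, t ≠ 0 → f i t ≠ 0 := fun i t ht h => ht ((map_eq_zero_iff _ (f i).injective).mp h)
  have hgf : ∀ i {t : F}, t ≠ 0 → g i (-t⁻¹) = -(f i t)⁻¹ := by
    intro i t ht
    refine exchange_criterion hT hC (T.simpF hT (π i)) (fne i ht) ?_
    obtain ⟨z, hz⟩ := (f i).surjective 1
    have e : θ (nG hT (T.simpF hT i) t * xG hT (T.simpF hT i) z * (nG hT (T.simpF hT i) t)⁻¹) =
        xG hT (T.simpF hT (π i)) (f i t) * xG hT (T.negF (T.simpF hT (π i))) (g i (-t⁻¹)) *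
          xG hT (T.simpF hT (π i)) (f i t) * xG hT (T.simpF hT (π i)) 1 *
        (xG hT (T.simpF hT (π i)) (f i t) * xG hT (T.negF (T.simpF hT (π i))) (g i (-t⁻¹)) *
          xG hT (T.simpF hT (π i)) (f i t))⁻¹ := by
      simp only [map_mul, map_inv, nG, hf, hg, hz]
    obtain ⟨c, hc⟩ := nG_conj hT (T.simpF hT i) (Units.mk0 t ht) z
    rw [Units.val_mk0] at hc
    rw [← e, hc]
    exact (hπ i).2.le ⟨_, (mem_RX hT).mpr ⟨_, rfl⟩, rfl⟩
  have hn : ∀ i {t : F}, t ≠ 0 → θ (nG hT (T.simpF hT i) t) = nG hT (T.simpF hT (π i)) (f i t) := by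
    intro i t ht
    rw [nG, map_mul, map_mul, hf, hg, hgf i ht, nG]
  let c : Fin T.rank → Fˣ := fun i => Units.mk0 (f i 1) (fne i one_ne_zero)
  let a : Fin T.rank → F → F := fun i t => ((c i)⁻¹ : Fˣ) * f i t
  have ha1 : ∀ i, a i 1 = 1 := fun i => by simp [a, c, fne i one_ne_zero]
  have hane : ∀ i {t : F}, t ≠ 0 → a i t ≠ 0 := fun i t ht => mul_ne_zero (Units.ne_zero _) (fne i ht)
  have hh : ∀ i (t : Fˣ),
      θ (nG hT (T.simpF hT i) (t : F) * nG hT (T.simpF hT i) (-1)) =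
        nG hT (T.simpF hT (π i)) (a i t) * nG hT (T.simpF hT (π i)) (-1) := by
    intro i t
    have hm1 : f i (-1) = -(f i 1) := map_neg (f i) 1
    rw [map_mul, hn i t.ne_zero, hn i (neg_ne_zero.mpr one_ne_zero), hm1, nG_neg, nG_neg]
    have := nG_div hT (T.simpF hT (π i)) (Units.mk0 (f i t) (fne i t.ne_zero)) (c i)
    rw [Units.val_mk0] at this
    rw [show f i 1 = (c i : F) from rfl, this]
    congr 2
    simp only [a, Units.val_mul, Units.val_mk0]
    ring
  have hmul : ∀ (i k : Fin T.rank) (t : Fˣ) (u : F), a k (((t ^ T.ca i (T.simple k) : Fˣ) : F) * u) =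
      (a i t) ^ T.ca (π i) (T.simple (π k)) * a k u := by
    intro i k t u
    have e := congrArg θ (hG_conj hT i t k u)
    rw [map_mul, map_mul, map_inv, hh, hf, hf,
      show a i (t : F) = ((Units.mk0 _ (hane i t.ne_zero) : Fˣ) : F) from rfl, hG_conj] at e
    have := xG_inj hT e
    simp only [Units.val_zpow_eq_zpow_val, Units.val_mk0] at this
    show ((c k)⁻¹ : Fˣ) * f k _ = _
    rw [Units.val_zpow_eq_zpow_val, ← this]
    simp only [a]
    ring
  have h2 : ∀ i : Fin T.rank, T.ca i (T.simple i) = 2 := fun i => by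
    rw [← pair_simple hT i.2, pair_self hT (simple_lt hT i.2)]
  have hadd : ∀ i x y, a i (x + y) = a i x + a i y := fun i x y => by
    simp only [a, map_add, mul_add]
  have hsq : ∀ i (t u : F), a i (t ^ 2 * u) = a i t ^ 2 * a i u := by
    intro i t u
    by_cases ht : t = 0
    · subst ht
      simp [a]
    have h := hmul i i (Units.mk0 t ht) u
    simp only [h2, Units.val_zpow_eq_zpow_val, Units.val_mk0, zpow_ofNat] at h
    exact h
  have hprod : ∀ i x y, a i (x * y) = a i x * a i y := by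
    intro i x y
    obtain ⟨p, q, rfl⟩ := exists_two_squares x
    have e1 : ∀ p, a i (p ^ 2) = a i p ^ 2 := fun p => by
      have := hsq i p 1
      rwa [mul_one, ha1, mul_one] at this
    rw [add_mul, hadd, hadd, hsq, hsq, e1, e1, add_mul]
  have hbij : ∀ i, Function.Bijective (a i) := fun i =>
    (Equiv.bijective ((f i).toEquiv.trans (Equiv.mulLeft₀ (((c i)⁻¹ : Fˣ) : F) (Units.ne_zero _))))
  let φ : Fin T.rank → F ≃+* F := fun i =>
    { Equiv.ofBijective (a i) (hbij i) with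
      map_mul' := hprod i
      map_add' := hadd i }
  have hfφ : ∀ i t, f i t = (c i : F) * φ i t := fun i t => by
    show f i t = (c i : F) * (((c i)⁻¹ : Fˣ) * f i t)
    rw [← mul_assoc, Units.mul_inv, one_mul]
  refine ⟨φ, c, fun i t => ⟨by rw [hf, hfφ], ?_⟩, fun i k t => ?_⟩
  · rw [hg]
    congr 1
    by_cases ht : t = 0
    · subst ht; simp
    · have := hgf i (t := -t⁻¹) (neg_ne_zero.mpr (inv_ne_zero ht))
      rw [inv_neg, inv_inv, neg_neg] at this
      rw [this, hfφ, map_neg, map_inv₀, mul_neg, inv_neg, neg_neg, mul_inv, inv_inv,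
        Units.val_inv_eq_inv_val]
  · have := hmul i k t 1
    rw [mul_one, ha1, mul_one, Units.val_zpow_eq_zpow_val] at this
    show a k t ^ _ = a i t ^ _
    rw [← this]
    exact (map_zpow₀ (φ k) (t : F) _).symm

/-- Adjacency of nodes is preserved. -/
theorem adj_preserved {θ : MulAut ↥(T.datum.group F)} {π : Equiv.Perm (Fin T.rank)}
    (hπ : ∀ i, (RX T F (T.simpF hT i)).map θ.toMonoidHom = RX T F (T.simpF hT (π i)) ∧
      (RX T F (T.negF (T.simpF hT i))).map θ.toMonoidHom = RX T F (T.negF (T.simpF hT (π i))))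
    (hsum : ∀ i k : Fin T.rank, i ≠ k → T.ca k (T.simple i) = 0 →
      T.sum? (T.simple i) (T.simple k) = none)
    {i k : Fin T.rank} (hne : i ≠ k) :
    T.ca k (T.simple i) = 0 ↔ T.ca (π k) (T.simple (π i)) = 0 := by
  have key : ∀ (φ : MulAut ↥(T.datum.group F)) (i k i' k' : Fin T.rank), i ≠ k → i' ≠ k' →
      (RX T F (T.simpF hT i)).map φ.toMonoidHom = RX T F (T.simpF hT i') →
      (RX T F (T.simpF hT k)).map φ.toMonoidHom = RX T F (T.simpF hT k') →
      T.ca k (T.simple i) = 0 → T.ca k' (T.simple i') = 0 := by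
    intro φ i k i' k' hne hne' ei ek h0
    by_contra h1
    refine not_commute_simple (F := F) hT hC hne' h1 fun t u => ?_
    obtain ⟨y, hy, ey⟩ := ei.ge ((mem_RX hT).mpr ⟨t, rfl⟩)
    obtain ⟨z, hz, ez⟩ := ek.ge ((mem_RX hT).mpr ⟨u, rfl⟩)
    obtain ⟨t', rfl⟩ := (mem_RX hT).mp hy
    obtain ⟨u', rfl⟩ := (mem_RX hT).mp hz
    rw [← ey, ← ez]
    exact (commute_simple hT hC hne (hsum i k hne h0) t' u').map φ.toMonoidHom
  have hback : ∀ j, (RX T F (T.simpF hT (π j))).map (θ⁻¹ : MulAut ↥(T.datum.group F)).toMonoidHom =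
      RX T F (T.simpF hT j) := fun j => by
    rw [← (hπ j).1, Subgroup.map_map]
    convert Subgroup.map_id _
    ext x
    simp
  exact ⟨key θ i k _ _ hne (π.injective.ne hne) (hπ i).1 (hπ k).1,
    key θ⁻¹ _ _ i k (π.injective.ne hne) hne (hback i) (hback k)⟩

end CfsgLib.KnownB.Aut
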