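import Cfsg.Agent.Lib.Chevalley.BN
import Cfsg.Agent.Lib.Chevalley.Bruhat
import Cfsg.Agent.Lib.Chevalley.Length
import Cfsg.Agent.Lib.Chevalley.Twist.RootUniq
import Cfsg.Agent.Lib.KnownB.Steinberg.Alt

/-!
Automorphisms of a finite Chevalley group: normalisation on the opposite unipotent subgroups.
-/

set_option autoImplicit false

namespace CfsgLib.KnownB.Aut

open CfsgLib.Chevalley CfsgLib.Chevalley.Tbl CfsgLib.KnownB.Steinberg

variable {T : Tbl} {F : Type*} [Field F]

/-- The positive unipotent subgroup inside the group. -/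
abbrev UU (T : Tbl) (F : Type*) [Field F] : Subgroup ↥(T.datum.group F) :=
  (T.datum.posUnipotent F).subgroupOf (T.datum.group F)

/-- The negative unipotent subgroup inside the group. -/
abbrev VV (T : Tbl) (F : Type*) [Field F] : Subgroup ↥(T.datum.group F) :=
  (T.datum.negUnipotent F).subgroupOf (T.datum.group F)

/-- The subgroup `B` inside the group. -/
abbrev BB (T : Tbl) (F : Type*) [Field F] : Subgroup ↥(T.datum.group F) :=
  (T.datum.borelSubgroup F).subgroupOf (T.datum.group F)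

/-- The automorphism fixes both unipotent subgroups. -/
structure Norm (θ : MulAut ↥(T.datum.group F)) : Prop where
  mapU : (UU T F).map θ.toMonoidHom = UU T F
  mapV : (VV T F).map θ.toMonoidHom = VV T F

theorem map_conj_normal {G : Type*} [Group G] (θ : MulAut G) (a : G) (H : Subgroup G) :
    (H.map (MulAut.conj a).toMonoidHom).map θ.toMonoidHom =
      (H.map θ.toMonoidHom).map (MulAut.conj (θ a)).toMonoidHom := by
  rw [Subgroup.map_map, Subgroup.map_map]
  congr 1
  ext x
  simp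

theorem map_conj_mul {G : Type*} [Group G] (a b : G) (H : Subgroup G) :
    H.map (MulAut.conj (a * b)).toMonoidHom =
      (H.map (MulAut.conj b).toMonoidHom).map (MulAut.conj a).toMonoidHom := by
  rw [Subgroup.map_map]
  congr 1
  ext x
  simp [mul_assoc]

variable (hT : T.Valid) (hC : T.chkComm = true)
include hT

/-- The element with one root coordinate. -/
noncomputable def xG (r : Fin T.n) (t : F) : ↥(T.datum.group F) := ⟨T.xU F r t, xU_mem_group hT r.2 t⟩

theorem xG_mem_UU {r : Fin T.n} (h : T.half ≤ r.val) (t : F) : xG hT r t ∈ UU T F := by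
  rw [Subgroup.mem_subgroupOf, posUnipotent_rootGen hT]
  exact xU_mem_rootGen (P := fun r => T.half ≤ r) r.2 h t

theorem xG_mem_VV {r : Fin T.n} (h : r.val < T.half) (t : F) : xG hT r t ∈ VV T F := by
  rw [Subgroup.mem_subgroupOf, negUnipotent_rootGen hT]
  exact xU_mem_rootGen (P := fun r => r < T.half) r.2 h t

theorem xG_ne_one (r : Fin T.n) {t : F} (ht : t ≠ 0) : xG hT r t ≠ 1 := fun e => ht (by
  have h : T.xU F r t = 1 := congrArg Subtype.val e
  rw [← xU_zero hT r.2] at h
  exact xU_inj hT r.2 h)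

omit hT in
theorem UU_le_BB : UU T F ≤ BB T F := fun _ hg => Subgroup.mem_sup_left hg

theorem UU_inf_VV : UU T F ⊓ VV T F = ⊥ := by
  rw [eq_bot_iff]
  rintro g ⟨h1, h2⟩
  refine Subgroup.mem_bot.mpr (Subtype.ext ?_)
  have := (pos_inf_neg (T := T) (F := F) hT).le ⟨h1, h2⟩
  exact Subgroup.mem_bot.mp this

theorem BB_inf_VV : BB T F ⊓ VV T F = ⊥ := by
  rw [eq_bot_iff]
  rintro g ⟨h1, h2⟩
  refine Subgroup.mem_bot.mpr (Subtype.ext ?_)
  exact Subgroup.mem_bot.mp ((borel_inf_neg (T := T) (F := F) hT).le ⟨h1, h2⟩)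

theorem BB_le_normalizer : BB T F ≤ Subgroup.normalizer (UU T F : Set ↥(T.datum.group F)) := by
  intro g hg
  have hn : T.datum.borelSubgroup F ≤ Subgroup.normalizer (T.datum.posUnipotent F : Set (GL T.I F)) := by
    refine sup_le Subgroup.le_normalizer ?_
    rw [posUnipotent_rootGen hT]; exact diag_le_normalizer hT _
  have := Subgroup.mem_normalizer_iff.mp (hn hg)
  rw [Subgroup.mem_normalizer_iff]
  exact fun x => this x

theorem diag_normalizes_VV {h : ↥(T.datum.group F)} (hh : (h : GL T.I F) ∈ T.datum.diagonalSubgroup F) :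
    h ∈ Subgroup.normalizer (VV T F : Set ↥(T.datum.group F)) := by
  have : (h : GL T.I F) ∈ Subgroup.normalizer (T.datum.negUnipotent F : Set (GL T.I F)) := by
    rw [negUnipotent_rootGen hT]; exact diag_le_normalizer hT _ hh
  rw [Subgroup.mem_normalizer_iff]
  exact fun x => Subgroup.mem_normalizer_iff.mp this x

omit hT in
theorem map_conj_of_mem {G : Type*} [Group G] {H : Subgroup G} {g : G}
    (hg : g ∈ Subgroup.normalizer (H : Set G)) : H.map (MulAut.conj g).toMonoidHom = H := by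
  ext x
  constructor
  · rintro ⟨y, hy, rfl⟩
    exact (Subgroup.mem_normalizer_iff.mp hg y).mp hy
  · intro hx
    refine ⟨g⁻¹ * x * g, (Subgroup.mem_normalizer_iff.mp hg _).mpr ?_, by simp [mul_assoc]⟩
    simpa [mul_assoc] using hx

/-- A monomial element moving no positive root to a negative one is diagonal. -/
theorem eq_one_of_conj_le {n : GL T.I F} {w : Equiv.Perm (Fin T.n)} (hw : w ∈ T.WP hT) (hm : T.Mono n w)
    (h : ∀ x ∈ T.datum.posUnipotent F, n * x * n⁻¹ ∈ T.datum.posUnipotent F) : w = 1 := by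
  refine eq_one_of_pos hT hw fun i => ?_
  set s := T.simpF hT i
  by_contra hlt
  obtain ⟨c, hc⟩ := hm.conj s
  have hU : T.xU F s 1 ∈ T.datum.posUnipotent F := by
    rw [posUnipotent_rootGen hT]
    exact xU_mem_rootGen (P := fun r => T.half ≤ r) s.2 (half_le_simpF hT i) 1
  have h1 := h _ hU
  rw [show n * T.xU F s 1 = _ from (hc 1).1, mul_inv_cancel_right, mul_one] at h1
  have h2 : T.xU F (w s) (c : F) ∈ T.datum.negUnipotent F := by
    rw [negUnipotent_rootGen hT]
    exact xU_mem_rootGen (P := fun r => r < T.half) (w s).2 (not_le.mp hlt) _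
  have h3 := Subgroup.mem_bot.mp ((pos_inf_neg (T := T) (F := F) hT).le ⟨h1, h2⟩)
  rw [← xU_zero hT (w s).2] at h3
  exact c.ne_zero (xU_inj hT (w s).2 h3)

/-- An element exchanging the unipotent subgroups. -/
theorem exists_n0 : ∃ n : ↥(T.datum.group F), ∃ w ∈ T.WP hT, T.Mono (n : GL T.I F) w ∧
    (n : GL T.I F) ∈ T.datum.monomialSubgroup F ∧ (∀ s : Fin T.n, T.half ≤ s.val ↔ (w s).val < T.half) ∧
    (UU T F).map (MulAut.conj n).toMonoidHom = VV T F ∧
    (VV T F).map (MulAut.conj n).toMonoidHom = UU T F := by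
  obtain ⟨n, hn, w, hm, hw⟩ := exists_longest (F := F) hT
  obtain ⟨w', hw', hm'⟩ := exists_mono hT hn
  obtain rfl := hm.unique hm'
  have hiff : ∀ s : Fin T.n, T.half ≤ s.val ↔ (w s).val < T.half := fun s => ⟨hw s, fun h => by
    by_contra hlt
    push Not at hlt
    have h1 := hw (T.negF s) (le_negF hlt)
    rw [hm.negEq] at h1
    exact absurd h1 (not_lt.mpr (le_negF h))⟩
  have conjmem : ∀ (P Q : ℕ → Prop), (∀ s : Fin T.n, P s.val → Q (w s).val) →
      (∀ s : Fin T.n, Q (w s).val → P s.val) →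
      (T.rootGen F P).map (MulAut.conj n).toMonoidHom = T.rootGen F Q := by
    intro P Q hPQ hQP
    refine le_antisymm ?_ fun x hx => ?_
    · rintro _ ⟨x, hx, rfl⟩
      exact conj_mem_rootGen hT hm hPQ hx
    · refine ⟨n⁻¹ * x * n, ?_, by simp [mul_assoc]⟩
      have := conj_mem_rootGen hT hm.inv (P := Q) (Q := P) (fun s hs => hQP _ (by
        rw [Equiv.Perm.inv_def, Equiv.apply_symm_apply]; exact hs)) hx
      rwa [inv_inv] at this
  have hG : ∀ P : ℕ → Prop, T.rootGen F P ≤ T.datum.group F := fun P =>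
    rootGen_le fun r hr _ t => xU_mem_group hT hr t
  have k1 := conjmem (fun r => T.half ≤ r) (fun r => r < T.half) (fun s => (hiff s).mp) (fun s => (hiff s).mpr)
  have k2 := conjmem (fun r => r < T.half) (fun r => T.half ≤ r)
    (fun s h => by by_contra h'; exact absurd ((hiff s).mpr (not_le.mp h')) (not_le.mpr h))
    (fun s h => by by_contra h'; exact absurd ((hiff s).mp (not_lt.mp h')) (not_lt.mpr h))
  refine ⟨⟨n, monomial_le_group hT hn⟩, w, hw', hm, hn, hiff, ?_, ?_⟩
  · ext x
    rw [Subgroup.mem_map]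
    constructor
    · rintro ⟨y, hy, rfl⟩
      show n * (y : GL T.I F) * n⁻¹ ∈ T.datum.negUnipotent F
      rw [negUnipotent_rootGen hT, ← k1]
      exact ⟨_, (posUnipotent_rootGen (F := F) hT).le hy, rfl⟩
    · intro hx
      obtain ⟨y, hy, he⟩ := k1.ge ((negUnipotent_rootGen (F := F) hT).le hx)
      exact ⟨⟨y, hG _ hy⟩, (posUnipotent_rootGen (F := F) hT).ge hy, Subtype.ext he⟩
  · ext x
    rw [Subgroup.mem_map]
    constructor
    · rintro ⟨y, hy, rfl⟩
      show n * (y : GL T.I F) * n⁻¹ ∈ T.datum.posUnipotent F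
      rw [posUnipotent_rootGen hT, ← k2]
      exact ⟨_, (negUnipotent_rootGen (F := F) hT).le hy, rfl⟩
    · intro hx
      obtain ⟨y, hy, he⟩ := k2.ge ((posUnipotent_rootGen (F := F) hT).le hx)
      exact ⟨⟨y, hG _ hy⟩, (negUnipotent_rootGen (F := F) hT).ge hy, Subtype.ext he⟩

include hC

/-- The normaliser of `U` is `B`. -/
theorem normalizer_UU : Subgroup.normalizer (UU T F : Set ↥(T.datum.group F)) = BB T F := by
  refine le_antisymm (fun g hg => ?_) (BB_le_normalizer hT)
  obtain ⟨b, hb, n, hn, w, hw, hm, u, hu, e⟩ := exists_canonical hT hC g.2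
  have hu' : u ∈ T.datum.posUnipotent F := by
    rw [posUnipotent_rootGen hT]; exact rootGen_mono (fun r _ ⟨_, hp, _⟩ => hp) hu
  have hb' : ⟨b, borel_le_group hT hb⟩ ∈ Subgroup.normalizer (UU T F : Set ↥(T.datum.group F)) :=
    BB_le_normalizer hT (Subgroup.mem_subgroupOf.mpr hb)
  have hu'' : (⟨u, borel_le_group hT (Subgroup.mem_sup_left hu')⟩ : ↥(T.datum.group F)) ∈
      Subgroup.normalizer (UU T F : Set ↥(T.datum.group F)) :=
    Subgroup.le_normalizer (Subgroup.mem_subgroupOf.mpr hu')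
  have hnN : (⟨n, monomial_le_group hT hn⟩ : ↥(T.datum.group F)) ∈
      Subgroup.normalizer (UU T F : Set ↥(T.datum.group F)) := by
    have := mul_mem (mul_mem (inv_mem hb') hg) (inv_mem hu'')
    convert this using 1
    refine Subtype.ext ?_
    simp only [Subgroup.coe_mul, Subgroup.coe_inv, e]
    group
  have hw1 : w = 1 := eq_one_of_conj_le hT hw hm fun x hx =>
    (Subgroup.mem_normalizer_iff.mp hnN ⟨x, borel_le_group hT (Subgroup.mem_sup_left hx)⟩).mp hx
  subst hw1
  rw [Subgroup.mem_subgroupOf, e]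
  exact mul_mem (mul_mem hb (Subgroup.mem_sup_right (mem_diag_of_mono_one hT hn hm)))
    (Subgroup.mem_sup_left hu')

theorem Norm.mapB {θ : MulAut ↥(T.datum.group F)} (h : Norm θ) : (BB T F).map θ.toMonoidHom = BB T F := by
  rw [← normalizer_UU hT hC, Subgroup.map_equiv_normalizer_eq, h.mapU]

/-- Every automorphism is normalised by an inner one. -/
theorem exists_norm [Fintype F] (p : ℕ) [Fact p.Prime] [CharP F p] (θ : MulAut ↥(T.datum.group F)) :
    ∃ x : ↥(T.datum.group F), Norm (MulAut.conj x * θ) := by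
  classical
  have hU : IsPGroup p ↥(UU T F) := isPGroup_pos hT hC p
  have hidx : ¬ p ∣ (UU T F).index := by
    have h := index_pos (F := F) hT hC p (Finset.range T.rank)
    rwa [parabolicIn_range hT hC, ← Subgroup.relIndex, Subgroup.relIndex_top_right] at h
  let P : Sylow p ↥(T.datum.group F) := hU.toSylow hidx
  obtain ⟨a, ha⟩ := MulAction.exists_smul_eq ↥(T.datum.group F) (P.mapSurjective (f := θ.toMonoidHom) θ.surjective) P
  have ha' : ((UU T F).map θ.toMonoidHom).map (MulAut.conj a).toMonoidHom = UU T F := by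
    have := congrArg (fun Q : Sylow p ↥(T.datum.group F) => Q.toSubgroup) ha
    exact this
  set θ₁ := MulAut.conj a * θ with hθ₁
  have hU1 : (UU T F).map θ₁.toMonoidHom = UU T F := by
    rw [hθ₁]
    refine Eq.trans ?_ ha'
    rw [Subgroup.map_map]
    rfl
  obtain ⟨n0, w0, hw0, hm0, hn0, hiff, hUV, hVU⟩ := exists_n0 (F := F) hT
  set c := θ₁ n0 with hc
  have hV1 : (VV T F).map θ₁.toMonoidHom = (UU T F).map (MulAut.conj c).toMonoidHom := by
    rw [← hUV, map_conj_normal, hU1]
  have hdisj : UU T F ⊓ (UU T F).map (MulAut.conj c).toMonoidHom = ⊥ := by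
    rw [← hV1]
    nth_rw 1 [← hU1]
    rw [← Subgroup.map_inf _ _ _ θ₁.injective, UU_inf_VV hT, Subgroup.map_bot]
  obtain ⟨b, hb, n, hn, w, hw, hm, u, hu, e⟩ := exists_canonical hT hC c.2
  have hu' : u ∈ T.datum.posUnipotent F := by
    rw [posUnipotent_rootGen hT]; exact rootGen_mono (fun r _ ⟨_, hp, _⟩ => hp) hu
  have hwneg : ∀ s : Fin T.n, T.half ≤ s.val → (w s).val < T.half := by
    intro s hs
    by_contra hge
    push Not at hge
    obtain ⟨k, hk⟩ := hm.conj s
    let x : GL T.I F := b * (n * T.xU F s 1 * n⁻¹) * b⁻¹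
    have hx1 : x ∈ T.datum.posUnipotent F := by
      have h1 : n * T.xU F s 1 * n⁻¹ ∈ T.datum.posUnipotent F := by
        rw [show n * T.xU F s 1 = _ from (hk 1).1, mul_inv_cancel_right, posUnipotent_rootGen hT]
        exact xU_mem_rootGen (P := fun r => T.half ≤ r) (w s).2 hge _
      exact (Subgroup.mem_normalizer_iff.mp (BB_le_normalizer (T := T) (F := F) hT
        (show (⟨b, borel_le_group hT hb⟩ : ↥(T.datum.group F)) ∈ BB T F from hb))
          ⟨_, borel_le_group hT (Subgroup.mem_sup_left h1)⟩).mp h1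
    have hxG : x ∈ T.datum.group F := borel_le_group hT (Subgroup.mem_sup_left hx1)
    have hy : u⁻¹ * T.xU F s 1 * u ∈ T.datum.posUnipotent F := by
      refine mul_mem (mul_mem (inv_mem hu') ?_) hu'
      rw [posUnipotent_rootGen hT]
      exact xU_mem_rootGen (P := fun r => T.half ≤ r) s.2 hs _
    have hx2 : (⟨x, hxG⟩ : ↥(T.datum.group F)) ∈ (UU T F).map (MulAut.conj c).toMonoidHom := by
      refine ⟨⟨_, borel_le_group hT (Subgroup.mem_sup_left hy)⟩, hy, Subtype.ext ?_⟩
      show (c : GL T.I F) * (u⁻¹ * T.xU F s 1 * u) * (c : GL T.I F)⁻¹ = x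
      rw [e]; group; simp [x, mul_assoc]
    have h0 : (⟨x, hxG⟩ : ↥(T.datum.group F)) ∈ (⊥ : Subgroup ↥(T.datum.group F)) := by
      rw [← hdisj]; exact ⟨hx1, hx2⟩
    have h1 : n * T.xU F s 1 * n⁻¹ = 1 := conj_eq_one_iff.mp (congrArg Subtype.val (Subgroup.mem_bot.mp h0))
    exact xG_ne_one (F := F) hT s one_ne_zero (Subtype.ext (conj_eq_one_iff.mp h1))
  have hw1 : w0⁻¹ * w = 1 := by
    refine eq_one_of_pos hT (mul_mem (inv_mem hw0) hw) fun i => ?_
    rw [Equiv.Perm.mul_apply]
    refine (hiff _).mpr ?_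
    rw [Equiv.Perm.inv_def, Equiv.apply_symm_apply]
    exact hwneg _ (half_le_simpF hT i)
  obtain rfl : w0 = w := inv_mul_eq_one.mp hw1
  have hd : n * (n0 : GL T.I F)⁻¹ ∈ T.datum.diagonalSubgroup F := by
    refine mem_diag_of_mono_one hT (mul_mem hn (inv_mem hn0)) ?_
    have := hm.mul hm0.inv
    rwa [mul_inv_cancel] at this
  let bb : ↥(T.datum.group F) := ⟨b, borel_le_group hT hb⟩
  have hV2 : (VV T F).map θ₁.toMonoidHom = (VV T F).map (MulAut.conj bb).toMonoidHom := by
    rw [hV1]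
    let d : ↥(T.datum.group F) := ⟨_, diag_le_group hT hd⟩
    let uu : ↥(T.datum.group F) := ⟨u, borel_le_group hT (Subgroup.mem_sup_left hu')⟩
    have hce : c = bb * d * n0 * uu := Subtype.ext (by
      show (c : GL T.I F) = b * (n * (n0 : GL T.I F)⁻¹) * n0 * u
      rw [e]; group)
    rw [hce, map_conj_mul, map_conj_mul, map_conj_mul,
      map_conj_of_mem (Subgroup.le_normalizer (show uu ∈ UU T F from hu')), hUV,
      map_conj_of_mem (diag_normalizes_VV hT (h := d) hd)]
  refine ⟨bb⁻¹ * a, ?_, ?_⟩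
  · rw [map_mul, mul_assoc, ← hθ₁]
    rw [show ((MulAut.conj bb⁻¹ : MulAut ↥(T.datum.group F)) * θ₁).toMonoidHom =
      (MulAut.conj bb⁻¹).toMonoidHom.comp θ₁.toMonoidHom from rfl, ← Subgroup.map_map, hU1,
      map_conj_of_mem (BB_le_normalizer hT (inv_mem (show bb ∈ BB T F from hb)))]
  · rw [map_mul, mul_assoc, ← hθ₁]
    rw [show ((MulAut.conj bb⁻¹ : MulAut ↥(T.datum.group F)) * θ₁).toMonoidHom =
      (MulAut.conj bb⁻¹).toMonoidHom.comp θ₁.toMonoidHom from rfl, ← Subgroup.map_map, hV2,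
      ← map_conj_mul, inv_mul_cancel, map_one]
    exact Subgroup.map_id _

end CfsgLib.KnownB.Aut
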