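import Cfsg.Agent.Lib.KnownB.Aut.Diagram
import Cfsg.Agent.Lib.Chevalley.GraphCheck
import Cfsg.Agent.Lib.Chevalley.TablesSt

/-! The diagrams of the tables, and a graph map of `D4` of order two. -/

set_option autoImplicit false
set_option maxRecDepth 100000
set_option Elab.async false

namespace CfsgLib.KnownB.Aut

open CfsgLib.Chevalley

/-- The diagram of `G2`. -/
def diagG2 : Diag Data.G2.tbl where
  L := [false, true]
  m := 3
  hm := by omega
  syms := [[0, 1], [1, 0]]
  edges := by decide +kernel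
  conn := by decide +kernel
  hsyms := by decide +kernel
  symOk := by decide +kernel
  hL := by decide +kernel
  pos := by decide +kernel

/-- The diagram of `B2`. -/
def diagB2 : Diag Data.B2.tbl where
  L := [false, true]
  m := 2
  hm := by omega
  syms := [[0, 1], [1, 0]]
  edges := by decide +kernel
  conn := by decide +kernel
  hsyms := by decide +kernel
  symOk := by decide +kernel
  hL := by decide +kernel
  pos := by decide +kernel

/-- The diagram of `F4`. -/
def diagF4 : Diag Data.F4.tbl where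
  L := [false, false, true, true]
  m := 2
  hm := by omega
  syms := [[0, 1, 2, 3], [3, 2, 1, 0]]
  edges := by decide +kernel
  conn := by decide +kernel
  hsyms := by decide +kernel
  symOk := by decide +kernel
  hL := by decide +kernel
  pos := by decide +kernel

/-- The diagram of `D4`. -/
def diagD4 : Diag Data.D4.tbl where
  L := []
  m := 2
  hm := by omega
  syms := [[0, 1, 2, 3], [0, 1, 3, 2], [2, 1, 0, 3], [2, 1, 3, 0], [3, 1, 0, 2], [3, 1, 2, 0]]
  edges := by decide +kernel
  conn := by decide +kernel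
  hsyms := by decide +kernel
  symOk := by decide +kernel
  hL := by decide +kernel
  pos := by decide +kernel

/-- The diagram of `E6`. -/
def diagE6 : Diag Data.E6.tbl where
  L := []
  m := 2
  hm := by omega
  syms := [[0, 1, 2, 3, 4, 5], [5, 1, 4, 3, 2, 0]]
  edges := by decide +kernel
  conn := by decide +kernel
  hsyms := by decide +kernel
  symOk := by decide +kernel
  hL := by decide +kernel
  pos := by decide +kernel

/-- The diagram of `E7`. -/
def diagE7 : Diag Data.E7.tbl where
  L := []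
  m := 2
  hm := by omega
  syms := [[0, 1, 2, 3, 4, 5, 6]]
  edges := by decide +kernel
  conn := by decide +kernel
  hsyms := by decide +kernel
  symOk := by decide +kernel
  hL := by decide +kernel
  pos := by decide +kernel

/-- The diagram of `E8`. -/
def diagE8 : Diag Data.E8.tbl where
  L := []
  m := 2
  hm := by omega
  syms := [[0, 1, 2, 3, 4, 5, 6, 7]]
  edges := by decide +kernel
  conn := by decide +kernel
  hsyms := by decide +kernel
  symOk := by decide +kernel
  hL := by decide +kernel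
  pos := by decide +kernel

/-- The graph map of `D4` exchanging the nodes `2` and `3`. -/
def flipD4 : Tbl.RootMap := ⟨[0, 1, 3, 2, 4, 5, 6, 8, 7, 9, 11, 10, 13, 12, 14, 16, 15, 17, 18, 19, 21, 20, 22, 23],
  List.replicate 24 1, List.replicate 24 1⟩

theorem chk_flipD4 : Data.D4.tbl.chkMap 0 flipD4 = true := by decide +kernel

theorem chk_flipD4_inv : Data.D4.tbl.chkInvMap 0 flipD4 flipD4 = true := by decide +kernel

theorem exists_diag {D : Cfsg.Lie.ChevalleyDatum}
    (hD : D ∈ [Cfsg.Lie.chevG2, Cfsg.Lie.chevB2, Cfsg.Lie.chevD4, Cfsg.Lie.chevF4, Cfsg.Lie.chevE6,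
      Cfsg.Lie.chevE7, Cfsg.Lie.chevE8]) :
    ∃ T : Tbl, T.StOk ∧ T.datum = D ∧ Nonempty (Diag T) := by
  simp only [List.mem_cons, List.not_mem_nil, or_false] at hD
  rcases hD with rfl | rfl | rfl | rfl | rfl | rfl | rfl
  · exact ⟨_, ⟨Data.G2.valid, Data.G2.chkComm, Data.G2.chkSorted, Data.G2.chkSplit⟩, Data.G2.datum_eq, ⟨diagG2⟩⟩
  · exact ⟨_, ⟨Data.B2.valid, Data.B2.chkComm, Data.B2.chkSorted, Data.B2.chkSplit⟩, Data.B2.datum_eq, ⟨diagB2⟩⟩
  · exact ⟨_, ⟨Data.D4.valid, Data.D4.chkComm, Data.D4.chkSorted, Data.D4.chkSplit⟩, Data.D4.datum_eq, ⟨diagD4⟩⟩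
  · exact ⟨_, ⟨Data.F4.valid, Data.F4.chkComm, Data.F4.chkSorted, Data.F4.chkSplit⟩, Data.F4.datum_eq, ⟨diagF4⟩⟩
  · exact ⟨_, ⟨Data.E6.valid, Data.E6.chkComm, Data.E6.chkSorted, Data.E6.chkSplit⟩, Data.E6.datum_eq, ⟨diagE6⟩⟩
  · exact ⟨_, ⟨Data.E7.valid, Data.E7.chkComm, Data.E7.chkSorted, Data.E7.chkSplit⟩, Data.E7.datum_eq, ⟨diagE7⟩⟩
  · exact ⟨_, ⟨Data.E8.valid, Data.E8.chkComm, Data.E8.chkSorted, Data.E8.chkSplit⟩, Data.E8.datum_eq, ⟨diagE8⟩⟩

end CfsgLib.KnownB.Aut
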