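import Cfsg.Agent.Lib.KnownB.Aut.Param

/-!
The decomposition of an automorphism into inner, diagonal, graph and field parts.
-/

set_option autoImplicit false

namespace CfsgLib.KnownB.Aut

open CfsgLib.Chevalley CfsgLib.Chevalley.Tbl

variable {T : Tbl} {F : Type*} [Field F]

/-- Transporting scalars along a node permutation. -/
def permC (π : Equiv.Perm (Fin T.rank)) (c : Fin T.rank → Fˣ) : Fin T.rank → Fˣ := fun j => c (π.symm j)

variable (hT : T.Valid)
include hT

theorem decomp [Finite F] (hC : T.chkComm = true) (P : Diag T) (θ : MulAut ↥(T.datum.group F)) :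
    ∃ (x : ↥(T.datum.group F)) (d g f : MulAut ↥(T.datum.group F)),
      T.datum.IsDiagonalAut d ∧ T.datum.IsGraphAut g ∧ T.datum.IsFieldAut f ∧
        θ = MulAut.conj x * (d * (g * f)) := by
  classical
  haveI := Fintype.ofFinite F
  obtain ⟨p, hp⟩ := CharP.exists F
  haveI := hp
  haveI : Fact p.Prime := ⟨CharP.char_is_prime F p⟩
  obtain ⟨x, hx⟩ := exists_norm hT hC p θ
  obtain ⟨π, hπ, -, σ, c, hθ⟩ := P.exists_form p hT hC hx
  set d := diagHom hT (permC π c)
  set f := fieldFun hT σ
  set g := d⁻¹ * (MulAut.conj x * θ) * f⁻¹ with hg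
  refine ⟨x⁻¹, d, g, f, diagHom_isDiagonal hT _, isGraphAut_of_acts hT P p hπ ?_, fieldFun_isField hT σ, ?_⟩
  · have hf : ∀ (r : Fin T.n) (t : F), f⁻¹ (xG hT r t) = xG hT r (σ.symm t) := fun r t => by
      refine f.injective ?_
      rw [fieldFun_x, RingEquiv.apply_symm_apply]
      exact f.apply_symm_apply _
    have hd : d⁻¹ = diagHom hT (permC π c)⁻¹ := (map_inv _ _).symm
    intro i t
    rw [hg, hd]
    generalize MulAut.conj x * θ = θ' at hθ
    simp only [MulAut.mul_apply]
    rw [hf, hf, (hθ i _).1, (hθ i _).2, (diagHom_x hT _ (π i) _).1, (diagHom_x hT _ (π i) _).2]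
    simp [permC]
  · rw [hg, map_inv]
    group

end CfsgLib.KnownB.Aut
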