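import Cfsg.Agent.Lib.KnownB.Aut.Action
import Cfsg.Prelude.Def_ChevAutomorphisms

/-!
Checks on a diagram, and the single field automorphism behind a normalised automorphism.
-/

set_option autoImplicit false

namespace CfsgLib.KnownB.Aut

open CfsgLib.Chevalley CfsgLib.Chevalley.Tbl

variable {T : Tbl}

/-- The nodes are joined. -/
def adjB (T : Tbl) (i j : ℕ) : Bool := !decide (T.ca j (T.simple i) = 0)

/-- The nodes reached from node `0` in so many steps. -/
def reach (T : Tbl) : ℕ → List ℕ
  | 0 => [0]
  | t + 1 => (List.range T.rank).filter fun k =>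
      (reach T t).any fun i => Nat.beq i k || (adjB T i k && !Nat.beq i k)

/-- Partial symmetries of the diagram. -/
def exts (T : Tbl) : ℕ → List (List ℕ)
  | 0 => [[]]
  | k + 1 => (exts T k).flatMap fun l => (List.range T.rank).filterMap fun j =>
      if (!l.contains j) && (List.range k).all (fun i => adjB T i k == adjB T (l.getD i 0) j &&
        adjB T k i == adjB T j (l.getD i 0)) then some (l ++ [j]) else none

/-- The conditions on a pair of nodes: `L` marks the long ones, `m` is the length ratio. -/
def chkEdge (T : Tbl) (L : List Bool) (m : ℕ) (i k : ℕ) : Bool :=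
  Nat.beq i k ||
    (bif adjB T i k then
      (bif L.getD i false == L.getD k false then
        decide (T.ca i (T.simple k) = -1) && decide (T.ca k (T.simple i) = -1)
      else bif L.getD k false then
        decide (T.ca i (T.simple k) = -(m : ℤ)) && decide (T.ca k (T.simple i) = -1)
      else decide (T.ca i (T.simple k) = -1) && decide (T.ca k (T.simple i) = -(m : ℤ)))
    else (T.sum? (T.simple i) (T.simple k)).isNone && decide (T.ca i (T.simple k) = 0))

/-- The bonds are preserved. -/
def chkSym (T : Tbl) (l : List ℕ) : Bool :=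
  allLt (fun i => allLt (fun k => Nat.beq i k || decide
    (T.ca (l.getD i 0) (T.simple (l.getD k 0)) * T.ca (l.getD k 0) (T.simple (l.getD i 0)) =
      T.ca i (T.simple k) * T.ca k (T.simple i))) T.rank) T.rank

/-- What is needed about the diagram of a table. -/
structure Diag (T : Tbl) where
  L : List Bool
  m : ℕ
  hm : m = 2 ∨ m = 3
  syms : List (List ℕ)
  edges : allLt (fun i => allLt (chkEdge T L m i) T.rank) T.rank = true
  conn : allLt (fun k => (reach T T.rank).contains k) T.rank = true
  hsyms : exts T T.rank = syms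
  symOk : syms.all (chkSym T) = true
  hL : ∀ i : Fin T.rank, T.datum.isLong (T.simple i.val) = L.getD i.val false
  pos : 0 < T.rank

/-- The permutation preserves adjacency. -/
def AdjPres (T : Tbl) (π : Equiv.Perm (Fin T.rank)) : Prop :=
  ∀ i k : Fin T.rank, i ≠ k → adjB T i k = adjB T (π i) (π k)

theorem mem_exts {π : Equiv.Perm (Fin T.rank)} (hπ : AdjPres T π) :
    List.ofFn (fun i => (π i).val) ∈ exts T T.rank := by
  have key : ∀ k, (hk : k ≤ T.rank) →
      (List.ofFn fun i : Fin k => (π (Fin.castLE hk i)).val) ∈ exts T k := by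
    intro k
    induction k with
    | zero => intro _; simp [exts]
    | succ k ih =>
      intro hk
      rw [exts, List.mem_flatMap]
      refine ⟨_, ih (Nat.le_of_succ_le hk), ?_⟩
      rw [List.mem_filterMap]
      refine ⟨(π ⟨k, hk⟩).val, List.mem_range.mpr (Fin.isLt _), ?_⟩
      rw [if_pos ?_]
      · rw [Option.some.injEq, List.ofFn_succ', List.concat_eq_append]
        rfl
      rw [Bool.and_eq_true, List.all_eq_true]
      refine ⟨?_, fun i hi => ?_⟩
      · rw [Bool.not_eq_true', ← Bool.not_eq_true, List.contains_iff_mem, List.mem_ofFn]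
        rintro ⟨i, hi⟩
        have := congrArg Fin.val (π.injective (Fin.ext hi))
        simp only [Fin.val_castLE] at this
        have := i.2
        omega
      · have hik : i < k := List.mem_range.mp hi
        have hne : (⟨i, by omega⟩ : Fin T.rank) ≠ ⟨k, hk⟩ := by
          simp only [ne_eq, Fin.mk.injEq]; omega
        have e : (List.ofFn fun i : Fin k => (π (Fin.castLE (Nat.le_of_succ_le hk) i)).val).getD i 0 =
            (π ⟨i, by omega⟩).val := by
          rw [List.getD_eq_getElem _ _ (by simpa using hik), List.getElem_ofFn]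
          rfl
        rw [Bool.and_eq_true, beq_iff_eq, beq_iff_eq, e]
        exact ⟨hπ _ _ hne, hπ _ _ hne.symm⟩
  exact key T.rank le_rfl

variable (P : Diag T)

theorem Diag.mem_syms {π : Equiv.Perm (Fin T.rank)} (hπ : AdjPres T π) :
    List.ofFn (fun i => (π i).val) ∈ P.syms := P.hsyms ▸ mem_exts hπ

theorem getD_ofFn (π : Equiv.Perm (Fin T.rank)) (i : Fin T.rank) :
    (List.ofFn fun i => (π i).val).getD i.val 0 = (π i).val := by
  rw [List.getD_eq_getElem _ _ (by simp), List.getElem_ofFn]

include P in
theorem Diag.bonds {π : Equiv.Perm (Fin T.rank)} (hπ : AdjPres T π) (i k : Fin T.rank) (h : i ≠ k) :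
    T.ca (π i) (T.simple (π k)) * T.ca (π k) (T.simple (π i)) =
      T.ca i (T.simple k) * T.ca k (T.simple i) := by
  have := List.all_eq_true.mp P.symOk _ (P.mem_syms hπ)
  have := allLt_iff.mp (allLt_iff.mp this i i.2) k k.2
  rw [getD_ofFn, getD_ofFn, Bool.or_eq_true, decide_eq_true_eq] at this
  exact this.resolve_left fun e => h (Fin.ext (Nat.eq_of_beq_eq_true e))

include P in
theorem Diag.isDiagramSymmetry (hT : T.Valid) {π : Equiv.Perm (Fin T.rank)} (hπ : AdjPres T π) :
    T.datum.IsDiagramSymmetry π := by
  intro i k h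
  unfold Cfsg.Lie.ChevalleyDatum.bonds
  rw [datum_simple (π k).2, datum_simple (π i).2, datum_simple k.2, datum_simple i.2,
    datum_cartan (π i).2 (simple_lt hT (π k).2), datum_cartan (π k).2 (simple_lt hT (π i).2),
    datum_cartan i.2 (simple_lt hT k.2), datum_cartan k.2 (simple_lt hT i.2)]
  exact P.bonds hπ i k h

/-- The exponent at a node. -/
def Diag.e (p : ℕ) (i j : Fin T.rank) : ℕ :=
  if P.L.getD j.val false && !P.L.getD i.val false then p else 1

theorem Diag.e_eq (p : ℕ) (i j : Fin T.rank) : T.datum.graphExp p i j = P.e p i j := by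
  unfold Cfsg.Lie.ChevalleyDatum.graphExp Diag.e
  rw [datum_simple i.2, datum_simple j.2, P.hL, P.hL]

theorem Diag.e_id (p : ℕ) (i : Fin T.rank) : P.e p i i = 1 := by
  unfold Diag.e
  cases P.L.getD i.val false <;> simp

theorem Diag.edge (i k : Fin T.rank) (h : i ≠ k) : chkEdge T P.L P.m i k = true :=
  allLt_iff.mp (allLt_iff.mp P.edges i i.2) k k.2

include P in
theorem Diag.nonadj (i k : Fin T.rank) (h : i ≠ k) (ha : adjB T i k = false) :
    T.sum? (T.simple i) (T.simple k) = none ∧ T.ca i (T.simple k) = 0 := by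
  have he := P.edge i k h
  unfold chkEdge at he
  rw [ha, Bool.or_eq_true, cond_false, Bool.and_eq_true, decide_eq_true_eq, Option.isNone_iff_eq_none] at he
  exact he.resolve_left fun e => h (Fin.ext (Nat.eq_of_beq_eq_true e))

include P in
theorem Diag.adj_symm (i k : Fin T.rank) (h : i ≠ k) : adjB T i k = adjB T k i := by
  have aux : ∀ i k : Fin T.rank, i ≠ k → adjB T i k = false → adjB T k i = false := by
    intro i k h ha
    simp [adjB, (P.nonadj i k h ha).2]
  cases ha : adjB T i k
  · exact (aux i k h ha).symm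
  · cases hb : adjB T k i
    · rw [aux k i h.symm hb] at ha; exact absurd ha (by simp)
    · rfl

/-- The Cartan integers of an edge. -/
theorem Diag.edge_ca (i k : Fin T.rank) (h : i ≠ k) (ha : adjB T i k = true) :
    T.ca i (T.simple k) =
      if !P.L.getD i.val false && P.L.getD k.val false then -(P.m : ℤ) else -1 := by
  have he := P.edge i k h
  unfold chkEdge at he
  rw [ha, Bool.or_eq_true, cond_true] at he
  replace he := he.resolve_left fun e => h (Fin.ext (Nat.eq_of_beq_eq_true e))
  cases hi : P.L.getD i.val false <;> cases hk : P.L.getD k.val false <;>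
    rw [hi, hk] at he <;>
    simp only [Bool.false_beq, Bool.true_beq, Bool.not_true, Bool.not_false, cond_true, cond_false,
      Bool.and_eq_true, decide_eq_true_eq, Bool.false_and, Bool.true_and, Bool.false_eq_true,
      if_false, if_true] at he ⊢ <;>
    exact he.1

variable {F : Type*} [Field F] [Finite F] (p : ℕ) [Fact p.Prime] [CharP F p]

theorem pow_m_eq {m : ℕ} (hm : m = 2 ∨ m = 3) (hadd : ∀ x y : F, (x + y) ^ m = x ^ m + y ^ m) (x : F) :
    x ^ m = x ^ p := by
  have h1 := hadd 1 1
  rcases hm with rfl | rfl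
  · have h2 : ((2 : ℕ) : F) = 0 := by push_cast; linear_combination h1
    have : p ∣ 2 := (CharP.cast_eq_zero_iff F p 2).mp h2
    rw [(Nat.prime_dvd_prime_iff_eq (Fact.out : p.Prime) Nat.prime_two).mp this]
  · have h2 : ((6 : ℕ) : F) = 0 := by push_cast; linear_combination h1
    have h6 : p ∣ 2 * 3 := (CharP.cast_eq_zero_iff F p 6).mp h2
    rcases (Fact.out : p.Prime).dvd_mul.mp h6 with h | h
    · have hp2 : p = 2 := (Nat.prime_dvd_prime_iff_eq (Fact.out : p.Prime) Nat.prime_two).mp h
      subst hp2
      have h3 : ((2 : ℕ) : F) = 0 := CharP.cast_eq_zero F 2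
      push_cast at h3
      have h4 : x ^ 2 + x = 0 := by
        linear_combination hadd 1 x - (x ^ 2 + x) * h3
      linear_combination (x - 2) * h4 + x * h3
    · rw [(Nat.prime_dvd_prime_iff_eq (Fact.out : p.Prime) Nat.prime_three).mp h]

theorem pow_p_inj {x y : F} (h : x ^ p = y ^ p) : x = y := frobenius_inj F p h

/-- The field automorphisms of the nodes come from one. -/
theorem Diag.exists_common {π : Equiv.Perm (Fin T.rank)} (hπ : AdjPres T π) (φ : Fin T.rank → F ≃+* F)
    (hrel : ∀ (i k : Fin T.rank) (t : Fˣ), (φ k t : F) ^ T.ca i (T.simple k) =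
      (φ i t : F) ^ T.ca (π i) (T.simple (π k))) :
    ∃ σ : F ≃+* F, ∀ i t, φ i t = σ t ^ P.e p i (π i) := by
  have hm0 : P.m ≠ 0 := by rcases P.hm with h | h <;> omega
  -- the relations with natural exponents
  have hone : ∀ i k : Fin T.rank, T.ca i (T.simple k) = -1 → T.ca (π i) (T.simple (π k)) = -1 →
      φ k = φ i := fun i k a b => RingEquiv.ext fun t => by
    by_cases ht : t = 0
    · simp [ht]
    have := hrel i k (Units.mk0 t ht)
    rw [a, b, zpow_neg_one, zpow_neg_one, inv_inj] at this
    exact this
  have hpow : ∀ i k : Fin T.rank, T.ca i (T.simple k) = -1 →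
      T.ca (π i) (T.simple (π k)) = -(P.m : ℤ) → ∀ t, φ k t = φ i t ^ P.m := by
    intro i k a b t
    by_cases ht : t = 0
    · simp [ht, hm0]
    have := hrel i k (Units.mk0 t ht)
    rw [a, b, zpow_neg_one, zpow_neg, inv_inj, zpow_natCast] at this
    exact this
  have step : ∀ (σ : F ≃+* F) (i k : Fin T.rank), i ≠ k → adjB T i k = true →
      (∀ t, φ i t = σ t ^ P.e p i (π i)) → ∀ t, φ k t = σ t ^ P.e p k (π k) := by
    intro σ i k hne ha hi
    have hne' := π.injective.ne hne
    have ha' : adjB T (π i) (π k) = true := by rw [← hπ i k hne]; exact ha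
    have hb : adjB T k i = true := by rw [← P.adj_symm i k hne]; exact ha
    have hb' : adjB T (π k) (π i) = true := by rw [← hπ k i hne.symm]; exact hb
    have hik := P.edge_ca i k hne ha
    have hki := P.edge_ca k i hne.symm hb
    have hik' := P.edge_ca _ _ hne' ha'
    have hki' := P.edge_ca _ _ hne'.symm hb'
    have hbd := P.bonds hπ i k hne
    rw [hik, hki, hik', hki'] at hbd
    have hmm : ∀ (ψ : F ≃+* F) (χ : F ≃+* F), (∀ t, χ t = ψ t ^ P.m) → ∀ x : F, x ^ P.m = x ^ p := by
      intro ψ χ h
      refine fun x => pow_m_eq p P.hm (fun a b => ?_) x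
      obtain ⟨a, rfl⟩ := ψ.surjective a
      obtain ⟨b, rfl⟩ := ψ.surjective b
      rw [← map_add, ← h, ← h, ← h, map_add]
    cases li : P.L.getD i.val false <;> cases lk : P.L.getD k.val false <;>
      cases li' : P.L.getD (π i).val false <;> cases lk' : P.L.getD (π k).val false <;>
      simp only [li, lk, li', lk', Bool.not_false, Bool.not_true, Bool.and_true, Bool.and_false,
        Bool.false_eq_true, if_false, if_true] at hik hki hik' hki' hbd <;>
      (try (exfalso; rcases P.hm with h | h <;> rw [h] at hbd <;> norm_num at hbd; done)) <;>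
      intro t <;>
      simp only [Diag.e, li, lk, li', lk', Bool.not_false, Bool.not_true, Bool.and_true, Bool.and_false,
        Bool.false_eq_true, if_false, if_true, pow_one] at hi ⊢
    all_goals first
      | (rw [hone i k hik hik']; exact hi t)
      | (rw [← hone k i hki hki']; exact hi t)
      | (apply pow_p_inj p
         rw [← hmm _ _ (hpow k i hki hki') (φ k t), ← hpow k i hki hki' t, hi t])
      | (rw [hpow i k hik hik' t, hmm _ _ (hpow i k hik hik') (φ i t), hi t])
  -- start at node `0`
  let i0 : Fin T.rank := ⟨0, P.pos⟩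
  obtain ⟨σ, hσ⟩ : ∃ σ : F ≃+* F, ∀ t, φ i0 t = σ t ^ P.e p i0 (π i0) := by
    haveI := PerfectRing.ofSurjective F p ((Finite.injective_iff_surjective).mp (frobenius_inj F p))
    unfold Diag.e
    split
    · refine ⟨(φ i0).trans (frobeniusEquiv F p).symm, fun t => ?_⟩
      rw [RingEquiv.trans_apply, frobeniusEquiv_symm_pow_p]
    · exact ⟨φ i0, fun t => (pow_one _).symm⟩
  have hall : ∀ n, ∀ k : Fin T.rank, k.val ∈ reach T n → ∀ t, φ k t = σ t ^ P.e p k (π k) := by
    intro n
    induction n with
    | zero =>
      intro k hk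
      have h0 : k.val = 0 := by simpa [reach] using hk
      rw [show k = i0 from Fin.ext h0]
      exact hσ
    | succ n ih =>
      intro k hk
      rw [reach, List.mem_filter, List.any_eq_true] at hk
      obtain ⟨-, i, hi, hk⟩ := hk
      rw [Bool.or_eq_true, Bool.and_eq_true, Bool.not_eq_true'] at hk
      rcases hk with hk | ⟨hk, hne⟩
      · exact ih k (Nat.eq_of_beq_eq_true hk ▸ hi)
      have hin : i < T.rank := by
        cases n with
        | zero => rw [reach, List.mem_singleton] at hi; rw [hi]; exact P.pos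
        | succ n => rw [reach, List.mem_filter] at hi; exact List.mem_range.mp hi.1
      exact step σ ⟨i, hin⟩ k (fun e => by rw [← e, Nat.beq_refl] at hne; simp at hne) hk (ih ⟨i, hin⟩ hi)
  exact ⟨σ, fun i => hall T.rank i (List.contains_iff_mem.mp (allLt_iff.mp P.conn i i.2))⟩

include P in
omit [Finite F] [Fact p.Prime] [CharP F p] in
/-- An exchange of root lengths makes the `m`-th power additive. -/
theorem Diag.swap_additive {π : Equiv.Perm (Fin T.rank)} (hπ : AdjPres T π) (φ : Fin T.rank → F ≃+* F)
    (hrel : ∀ (i k : Fin T.rank) (t : Fˣ), (φ k t : F) ^ T.ca i (T.simple k) =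
      (φ i t : F) ^ T.ca (π i) (T.simple (π k)))
    {i k : Fin T.rank} (hne : i ≠ k) (ha : adjB T i k = true) (li : P.L.getD i.val false = false)
    (lk : P.L.getD k.val false = true) (li' : P.L.getD (π i).val false = true) (x y : F) :
    (x + y) ^ P.m = x ^ P.m + y ^ P.m := by
  have hm0 : P.m ≠ 0 := by rcases P.hm with h | h <;> omega
  have hne' := π.injective.ne hne
  have ha' : adjB T (π i) (π k) = true := by rw [← hπ i k hne]; exact ha
  have hb : adjB T k i = true := by rw [← P.adj_symm i k hne]; exact ha
  have hb' : adjB T (π k) (π i) = true := by rw [← hπ k i hne.symm]; exact hb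
  have hik := P.edge_ca i k hne ha
  have hki := P.edge_ca k i hne.symm hb
  have hik' := P.edge_ca _ _ hne' ha'
  have hki' := P.edge_ca _ _ hne'.symm hb'
  have hbd := P.bonds hπ i k hne
  rw [hik, hki, hik', hki'] at hbd
  have lk' : P.L.getD (π k).val false = false := by
    cases h : P.L.getD (π k).val false
    · rfl
    · simp only [li, lk, li', h, Bool.not_false, Bool.not_true, Bool.and_true, Bool.and_false,
        Bool.false_eq_true, if_false, if_true] at hbd
      exfalso
      rcases P.hm with hm | hm <;> rw [hm] at hbd <;> norm_num at hbd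
  simp only [li, lk, li', lk', Bool.not_false, Bool.not_true, Bool.and_true, Bool.and_false,
    Bool.false_eq_true, if_false, if_true] at hki hki'
  have h : ∀ t, φ i t = φ k t ^ P.m := by
    intro t
    by_cases ht : t = 0
    · simp [ht, hm0]
    have := hrel k i (Units.mk0 t ht)
    rw [hki, hki', zpow_neg_one, zpow_neg, inv_inj, zpow_natCast] at this
    exact this
  obtain ⟨a, rfl⟩ := (φ k).surjective x
  obtain ⟨b, rfl⟩ := (φ k).surjective y
  rw [← map_add, ← h, ← h, ← h, map_add]

/-- A permutation exchanging root lengths comes with additivity of the `m`-th power. -/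
def SwapOK (P : Diag T) (F : Type*) [Field F] (π : Equiv.Perm (Fin T.rank)) : Prop :=
  ∀ i k : Fin T.rank, i ≠ k → adjB T i k = true → P.L.getD i.val false = false →
    P.L.getD k.val false = true → P.L.getD (π i).val false = true →
      ∀ x y : F, (x + y) ^ P.m = x ^ P.m + y ^ P.m

/-- The form of a normalised automorphism on the fundamental root subgroups and their opposites. -/
theorem Diag.exists_form (hT : T.Valid) (hC : T.chkComm = true) {θ : MulAut ↥(T.datum.group F)}
    (h : Norm θ) :
    ∃ π : Equiv.Perm (Fin T.rank), AdjPres T π ∧ SwapOK P F π ∧ ∃ (σ : F ≃+* F) (c : Fin T.rank → Fˣ), ∀ i t,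
      θ (xG hT (T.simpF hT i) t) = xG hT (T.simpF hT (π i)) ((c i : F) * σ t ^ P.e p i (π i)) ∧
        θ (xG hT (T.negF (T.simpF hT i)) t) =
          xG hT (T.negF (T.simpF hT (π i))) (((c i)⁻¹ : Fˣ) * σ t ^ P.e p i (π i)) := by
  obtain ⟨π, hπ⟩ := exists_node_perm hT hC h
  have hadj : AdjPres T π := by
    intro i k hne
    have := adj_preserved hT hC hπ (fun i k h h0 => (P.nonadj i k h (by simp [adjB, h0])).1) hne
    simp only [adjB, decide_eq_decide.mpr this]
  obtain ⟨φ, c, hφ, hrel⟩ := exists_field_parts hT hC hπ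
  obtain ⟨σ, hσ⟩ := P.exists_common p hadj φ hrel
  exact ⟨π, hadj, fun _ _ hne ha li lk li' => P.swap_additive hadj φ hrel hne ha li lk li', σ, c,
    fun i t => by rw [← hσ]; exact hφ i t⟩

end CfsgLib.KnownB.Aut
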