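import Cfsg.Agent.Lib.KnownB.Aut.OutGroup
import Cfsg.Agent.Lib.KnownB.Aut.Data
import Cfsg.Agent.Lib.Chevalley.Data.GraphCerts
import Cfsg.Agent.Lib.Chevalley.GraphEnd

/-!
Graph automorphisms from root maps, as normalised automorphisms.
-/

set_option autoImplicit false
set_option maxRecDepth 100000
set_option Elab.async false

namespace CfsgLib.KnownB.Aut

open CfsgLib.Chevalley CfsgLib.Chevalley.Tbl

/-- The root map follows `π` at the nodes, with trivial signs and exponents `ex`, and keeps positivity. -/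
def chkGraph (T : Tbl) (M : RootMap) (π : Equiv.Perm (Fin T.rank)) (ex : Fin T.rank → ℕ) : Bool :=
  (List.finRange T.rank).all (fun i => Nat.beq (M.ρ (T.simple i)) (T.simple (π i)) &&
    decide (M.ε (T.simple i) = 1) && Nat.beq (M.lam (T.simple i)) (ex i)) &&
  allLt (fun r => Nat.ble T.half (M.ρ r) == Nat.ble T.half r) T.n

variable {T : Tbl} {F : Type*} [Field F]

theorem exists_graph [Finite F] (hO : T.StOk) (P : Diag T) (p : ℕ) {q : ℕ} (hq : CharOk F q)
    {M N : RootMap} (hM : T.chkMap q M = true) (hN : T.chkMap q N = true)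
    (hinv : T.chkInvMap q M N = true) (π : Equiv.Perm (Fin T.rank))
    (hg : chkGraph T M π (fun i => P.e p i (π i)) = true) :
    ∃ g ∈ NS T F, Acts P p hO.valid g π 1 1 := by
  have hT := hO.valid
  have hperf : ∀ x : F, ∃ y : F, y ^ q = x ∨ q = 0 := by
    intro x
    rcases hq with rfl | ⟨hpr, hc⟩
    · exact ⟨0, Or.inr rfl⟩
    · haveI := hc
      haveI : Fact q.Prime := ⟨hpr⟩
      obtain ⟨y, hy⟩ := (Finite.injective_iff_surjective.mp (frobenius_inj F q)) x
      exact ⟨y, Or.inl hy⟩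
  obtain ⟨α, hα⟩ := exists_rootMap_aut hO hq hM hN hinv hperf
  simp only [chkGraph, Bool.and_eq_true, List.all_eq_true, List.mem_finRange, true_implies,
    allLt_iff, decide_eq_true_eq] at hg
  have key : ∀ (r : Fin T.n) t, α (xG hT r t) = xG hT ⟨M.ρ r.val, (chkMap_facts hM r.2).1⟩ (M.par r t) :=
    fun r t => Subtype.ext (hα _ r t r.2 rfl)
  refine ⟨α, norm_of_rootMap hT (fun r => ⟨M.ρ r.val, (chkMap_facts hM r.2).1⟩) (fun r => ?_)
    fun r t => ⟨_, key r t⟩, fun i t => ?_⟩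
  · have := hg.2 r r.2
    rw [beq_iff_eq, Bool.eq_iff_iff] at this
    simpa using this
  · obtain ⟨⟨h1, h2⟩, h3⟩ := hg.1 i
    obtain ⟨hlt, hneg, -, heps, hlam, -⟩ := chkMap_facts hM (simple_lt hT i.2)
    refine ⟨Subtype.ext ?_, Subtype.ext ?_⟩
    · rw [key]
      show T.xU F (M.ρ (T.simple i)) (M.par (T.simple i) t) = T.xU F (T.simple (π i)) _
      rw [Nat.eq_of_beq_eq_true h1, RootMap.par, h2, Nat.eq_of_beq_eq_true h3]
      simp
    · rw [key]
      show T.xU F (M.ρ (T.neg (T.simple i))) (M.par (T.neg (T.simple i)) t) =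
        T.xU F (T.neg (T.simple (π i))) _
      rw [hneg, Nat.eq_of_beq_eq_true h1, RootMap.par, heps, h2, hlam, Nat.eq_of_beq_eq_true h3]
      simp

/-- The identity is a graph automorphism. -/
theorem exists_graph_one (hT : T.Valid) (P : Diag T) (p : ℕ) : ∃ g ∈ NS T F, Acts P p hT g 1 1 1 :=
  ⟨1, one_mem _, fun i t => by simp [Diag.e_id]⟩

/-- The exchange of the two nodes of `G2`. -/
def piG2 : Equiv.Perm (Fin Data.G2.tbl.rank) := Equiv.swap (⟨0, by decide +kernel⟩) (⟨1, by decide +kernel⟩)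

/-- The reversal of the nodes of `F4`. -/
def piF4 : Equiv.Perm (Fin Data.F4.tbl.rank) :=
  Equiv.swap (⟨0, by decide +kernel⟩) (⟨3, by decide +kernel⟩) *
    Equiv.swap (⟨1, by decide +kernel⟩) (⟨2, by decide +kernel⟩)

/-- The symmetry of the nodes of `E6`. -/
def piE6 : Equiv.Perm (Fin Data.E6.tbl.rank) :=
  Equiv.swap (⟨0, by decide +kernel⟩) (⟨5, by decide +kernel⟩) *
    Equiv.swap (⟨2, by decide +kernel⟩) (⟨4, by decide +kernel⟩)

/-- Triality on the nodes of `D4`. -/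
def piD4 : Equiv.Perm (Fin Data.D4.tbl.rank) :=
  Equiv.swap (⟨0, by decide +kernel⟩) (⟨2, by decide +kernel⟩) *
    Equiv.swap (⟨2, by decide +kernel⟩) (⟨3, by decide +kernel⟩)

/-- An exchange of two nodes of `D4`. -/
def flipPiD4 : Equiv.Perm (Fin Data.D4.tbl.rank) :=
  Equiv.swap (⟨2, by decide +kernel⟩) (⟨3, by decide +kernel⟩)

theorem graph_g2 [Finite F] [CharP F 3] :
    ∃ g ∈ NS Data.G2.tbl F, Acts diagG2 3 Data.G2.valid g piG2 1 1 :=
  exists_graph ⟨Data.G2.valid, Data.G2.chkComm, Data.G2.chkSorted, Data.G2.chkSplit⟩ diagG2 3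
    (q := 3) (Or.inr ⟨Nat.prime_three, inferInstance⟩) Data.G2.chk_graph Data.G2.chk_graph
    Data.G2.chk_graph_inv piG2 (by decide +kernel)

theorem graph_f4 [Finite F] [CharP F 2] :
    ∃ g ∈ NS Data.F4.tbl F, Acts diagF4 2 Data.F4.valid g piF4 1 1 :=
  exists_graph ⟨Data.F4.valid, Data.F4.chkComm, Data.F4.chkSorted, Data.F4.chkSplit⟩ diagF4 2
    (q := 2) (Or.inr ⟨Nat.prime_two, inferInstance⟩) Data.F4.chk_graph Data.F4.chk_graph
    Data.F4.chk_graph_inv piF4 (by decide +kernel)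

theorem e_const {T : Tbl} (P : Diag T) (hP : P.L = []) (p : ℕ) (i j : Fin T.rank) : P.e p i j = 1 := by
  simp [Diag.e, hP]

theorem graph_e6 [Finite F] (p : ℕ) : ∃ g ∈ NS Data.E6.tbl F, Acts diagE6 p Data.E6.valid g piE6 1 1 :=
  exists_graph ⟨Data.E6.valid, Data.E6.chkComm, Data.E6.chkSorted, Data.E6.chkSplit⟩ diagE6 p
    (q := 0) (Or.inl rfl) Data.E6.chk_graph Data.E6.chk_graph
    Data.E6.chk_graph_inv piE6 (by simp only [e_const diagE6 rfl]; decide +kernel)

theorem graph_d4 [Finite F] (p : ℕ) : ∃ g ∈ NS Data.D4.tbl F, Acts diagD4 p Data.D4.valid g piD4 1 1 :=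
  exists_graph ⟨Data.D4.valid, Data.D4.chkComm, Data.D4.chkSorted, Data.D4.chkSplit⟩ diagD4 p
    (q := 0) (Or.inl rfl) Data.D4.chk_graph Data.D4.chk_graph2
    Data.D4.chk_graph_inv piD4 (by simp only [e_const diagD4 rfl]; decide +kernel)

theorem flip_d4 [Finite F] (p : ℕ) :
    ∃ g ∈ NS Data.D4.tbl F, Acts diagD4 p Data.D4.valid g flipPiD4 1 1 :=
  exists_graph ⟨Data.D4.valid, Data.D4.chkComm, Data.D4.chkSorted, Data.D4.chkSplit⟩ diagD4 p
    (q := 0) (Or.inl rfl) chk_flipD4 chk_flipD4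
    chk_flipD4_inv flipPiD4 (by simp only [e_const diagD4 rfl]; decide +kernel)

end CfsgLib.KnownB.Aut
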