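import Cfsg.Agent.Lib.KnownB.Aut.Decomp
import Cfsg.Agent.Lib.Chevalley.Torus
import Cfsg.Agent.Lib.KnownC.AutPSL.Outer
import Cfsg.Prelude.Def_KGroupFacts

/-!
Normalised automorphisms as a group, and the order of the outer automorphism group.
-/

set_option autoImplicit false

namespace CfsgLib.KnownB.Aut

open CfsgLib.Chevalley CfsgLib.Chevalley.Tbl

variable {T : Tbl} {F : Type*} [Field F]

theorem map_mul_aut (θ θ' : MulAut ↥(T.datum.group F)) (H : Subgroup ↥(T.datum.group F)) :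
    H.map (θ * θ').toMonoidHom = (H.map θ'.toMonoidHom).map θ.toMonoidHom := by
  rw [Subgroup.map_map]; rfl

/-- The normalised automorphisms. -/
def NS (T : Tbl) (F : Type*) [Field F] : Subgroup (MulAut ↥(T.datum.group F)) where
  carrier := {θ | Norm θ}
  one_mem' := ⟨Subgroup.map_id _, Subgroup.map_id _⟩
  mul_mem' {a b} ha hb := ⟨by rw [map_mul_aut, hb.mapU, ha.mapU], by rw [map_mul_aut, hb.mapV, ha.mapV]⟩
  inv_mem' {a} ha := Norm.symm ha

theorem norm_of_le [Finite F] {θ : MulAut ↥(T.datum.group F)} (hU : (UU T F).map θ.toMonoidHom ≤ UU T F)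
    (hV : (VV T F).map θ.toMonoidHom ≤ VV T F) : Norm θ := by
  classical
  exact ⟨Subgroup.eq_of_le_of_card_ge hU (le_of_eq (Subgroup.card_map_of_injective θ.injective).symm),
    Subgroup.eq_of_le_of_card_ge hV (le_of_eq (Subgroup.card_map_of_injective θ.injective).symm)⟩

variable (hT : T.Valid)
include hT

omit hT in
theorem map_rootGen_le (hT : T.Valid) {θ : MulAut ↥(T.datum.group F)} {P : ℕ → Prop}
    {K : Subgroup ↥(T.datum.group F)} (hK : ∀ r : Fin T.n, P r.val → ∀ t, θ (xG hT r t) ∈ K) :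
    ((T.rootGen F P).subgroupOf (T.datum.group F)).map θ.toMonoidHom ≤ K := by
  rw [Subgroup.map_le_iff_le_comap]
  intro g hg
  have hle : T.rootGen F P ≤ (K.comap θ.toMonoidHom).map (T.datum.group F).subtype :=
    rootGen_le fun r hr hP t => ⟨xG hT ⟨r, hr⟩ t, hK ⟨r, hr⟩ hP t, rfl⟩
  obtain ⟨y, hy, e⟩ := hle (Subgroup.mem_subgroupOf.mp hg)
  rwa [← Subtype.ext (a1 := y) (a2 := g) e]

/-- An automorphism moving root subgroups by a map preserving positivity is normalised. -/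
theorem norm_of_rootMap [Finite F] {θ : MulAut ↥(T.datum.group F)} (ρ : Fin T.n → Fin T.n)
    (hρ : ∀ r, T.half ≤ (ρ r).val ↔ T.half ≤ r.val)
    (h : ∀ r t, ∃ u, θ (xG hT r t) = xG hT (ρ r) u) : Norm θ := by
  refine norm_of_le ?_ ?_
  · refine le_of_eq_of_le ?_ (map_rootGen_le hT (θ := θ) (P := fun r => T.half ≤ r) fun r hr t => ?_)
    · rw [← posUnipotent_rootGen hT]
    · obtain ⟨u, e⟩ := h r t
      rw [e]; exact xG_mem_UU hT ((hρ r).mpr hr) u
  · refine le_of_eq_of_le ?_ (map_rootGen_le hT (θ := θ) (P := fun r => r < T.half) fun r hr t => ?_)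
    · rw [← negUnipotent_rootGen hT]
    · obtain ⟨u, e⟩ := h r t
      rw [e]; exact xG_mem_VV hT (not_le.mp fun h' => absurd ((hρ r).mp h') (not_le.mpr hr)) u

theorem diagHom_root (c : Fin T.rank → Fˣ) (r : Fin T.n) (t : F) :
    diagHom hT c (xG hT r t) = xG hT r ((T.chOf (nodeFun c) r : F) * t) :=
  Subtype.ext (diagMat_conj hT c r.2 t)

theorem diag_mem_NS [Finite F] (c : Fin T.rank → Fˣ) : diagHom hT c ∈ NS T F :=
  norm_of_rootMap hT id (fun _ => Iff.rfl) fun r t => ⟨_, diagHom_root hT c r t⟩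

theorem field_mem_NS [Finite F] (σ : F ≃+* F) : fieldFun hT σ ∈ NS T F :=
  norm_of_rootMap hT id (fun _ => Iff.rfl) fun r t => ⟨_, fieldFun_x hT σ r t⟩

variable (hC : T.chkComm = true)
include hC

/-- The parameters are unique. -/
theorem acts_unique [Finite F] (P : Diag T) (p : ℕ) [Fact p.Prime] [CharP F p] {θ : MulAut ↥(T.datum.group F)}
    {π π' : Equiv.Perm (Fin T.rank)} {σ σ' : F ≃+* F} {c c' : Fin T.rank → Fˣ}
    (h : Acts P p hT θ π σ c) (h' : Acts P p hT θ π' σ' c') : π = π' ∧ σ = σ' ∧ c = c' := by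
  have hπ : π = π' := Equiv.ext fun i => by
    have e := (h i 1).1.symm.trans (h' i 1).1
    exact simpF_injective hT (xG_root_eq hT hC (by simp) e)
  subst hπ
  have hc : c = c' := funext fun i => by
    have e := xG_inj hT ((h i 1).1.symm.trans (h' i 1).1)
    simpa [Units.val_inj] using e
  subst hc
  refine ⟨rfl, RingEquiv.ext fun t => ?_, rfl⟩
  have e := xG_inj hT ((h ⟨0, P.pos⟩ t).1.symm.trans (h' ⟨0, P.pos⟩ t).1)
  have e' := mul_left_cancel₀ (c ⟨0, P.pos⟩).ne_zero e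
  unfold Diag.e at e'
  split at e'
  · exact pow_p_inj p e'
  · simpa using e'

/-- The projection to the outer automorphism group. -/
noncomputable def toOut (T : Tbl) (F : Type*) [Field F] : ↥(NS T F) →* Cfsg.Out ↥(T.datum.group F) :=
  (QuotientGroup.mk' _).comp (NS T F).subtype

theorem toOut_surjective [Finite F] : Function.Surjective (toOut T F) := by
  haveI := Fintype.ofFinite F
  obtain ⟨p, hp⟩ := CharP.exists F
  haveI := hp
  haveI : Fact p.Prime := ⟨CharP.char_is_prime F p⟩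
  intro x
  obtain ⟨θ, rfl⟩ := QuotientGroup.mk'_surjective _ x
  obtain ⟨a, ha⟩ := exists_norm hT hC p θ
  refine ⟨⟨_, ha⟩, ?_⟩
  show QuotientGroup.mk' _ (MulAut.conj a * θ) = _
  rw [map_mul, show QuotientGroup.mk' (Cfsg.Inn ↥(T.datum.group F)) (MulAut.conj a) = 1 from
    (QuotientGroup.eq_one_iff _).mpr ⟨a, rfl⟩, one_mul]

/-- An inner automorphism is normalised only for an element of `H`. -/
theorem mem_diag_of_norm {x : ↥(T.datum.group F)} (hx : Norm (MulAut.conj x)) :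
    (x : GL T.I F) ∈ T.datum.diagonalSubgroup F := by
  have hstab : ∀ {H : Subgroup ↥(T.datum.group F)}, H.map (MulAut.conj x).toMonoidHom = H →
      x ∈ Subgroup.normalizer (H : Set ↥(T.datum.group F)) := by
    intro H h
    rw [Subgroup.mem_normalizer_iff]
    intro y
    constructor
    · intro hy; rw [← h]; exact ⟨y, hy, rfl⟩
    · intro hy
      obtain ⟨z, hz, e⟩ := h.ge hy
      rwa [← (MulAut.conj x).injective (show MulAut.conj x z = MulAut.conj x y from e)]
  have hxB := hstab hx.mapU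
  rw [normalizer_UU hT hC] at hxB
  obtain ⟨u, hu, h, hh, e⟩ := (mem_borel_iff hT).mp hxB
  let uu : ↥(T.datum.group F) := ⟨u, borel_le_group hT (Subgroup.mem_sup_left hu)⟩
  let hG : ↥(T.datum.group F) := ⟨h, diag_le_group hT hh⟩
  have hxe : x = uu * hG := Subtype.ext e
  have huV : uu ∈ Subgroup.normalizer (VV T F : Set ↥(T.datum.group F)) := by
    have h1 := mul_mem (hstab hx.mapV) (inv_mem (diag_normalizes_VV hT (h := hG) hh))
    rwa [hxe, mul_inv_cancel_right] at h1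
  obtain ⟨n, w, -, -, -, -, hUV, hVU⟩ := exists_n0 (F := F) hT
  have hy : n * uu * n⁻¹ ∈ BB T F := by
    rw [← normalizer_UU hT hC, Subgroup.mem_normalizer_iff]
    intro z
    have hz : z ∈ UU T F ↔ n⁻¹ * z * n ∈ VV T F := by
      conv_lhs => rw [← hVU]
      rw [Subgroup.mem_map_equiv]
      simp
    have hz' : n * uu * n⁻¹ * z * (n * uu * n⁻¹)⁻¹ ∈ UU T F ↔
        uu * (n⁻¹ * z * n) * uu⁻¹ ∈ VV T F := by
      conv_lhs => rw [← hVU]
      rw [Subgroup.mem_map_equiv]
      simp [mul_assoc]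
    rw [hz, hz']
    exact Subgroup.mem_normalizer_iff.mp huV _
  have h0 : n * uu * n⁻¹ = 1 := Subgroup.mem_bot.mp ((BB_inf_VV (T := T) (F := F) hT).le
    (Subgroup.mem_inf.mpr ⟨hy, hUV.le ⟨uu, hu, rfl⟩⟩))
  rw [hxe, conj_eq_one_iff.mp h0, one_mul]
  exact hh

omit hC in
/-- Conjugation by an element of `H` is a diagonal automorphism. -/
theorem conj_diag_eq {x : ↥(T.datum.group F)} (hx : (x : GL T.I F) ∈ T.datum.diagonalSubgroup F) :
    ∃ c, MulAut.conj x = diagHom hT c := by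
  obtain ⟨χ, hχ, e⟩ := diag_exists_char hT hx
  refine ⟨fun i => χ (T.simple i), aut_ext hT fun i t => ?_⟩
  obtain ⟨h1, h2⟩ := diagHom_x hT (fun i : Fin T.rank => χ (T.simple i)) i t
  have key : ∀ r : Fin T.n, MulAut.conj x (xG hT r t) = xG hT r ((χ r : F) * t) := fun r => by
    refine Subtype.ext ?_
    show (x : GL T.I F) * T.xU F r t * (x : GL T.I F)⁻¹ = T.xU F r _
    rw [e, dU_conj_X hT hχ r.2, mul_inv_cancel_right]
  rw [h1, h2, key, key]
  refine ⟨rfl, ?_⟩
  show xG hT _ ((χ (T.neg (T.simple i)) : F) * t) = _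
  rw [hχ.neg _ (simple_lt hT i.2)]

omit hC in
/-- An element of `H` inducing the identity is trivial. -/
theorem eq_one_of_conj {x : ↥(T.datum.group F)} (hx : (x : GL T.I F) ∈ T.datum.diagonalSubgroup F)
    (h : MulAut.conj x = 1) : x = 1 := by
  obtain ⟨f, hf⟩ := (mem_diag_iff hT).mp hx
  have hx' : (x : GL T.I F) = torusHom T F f := hf
  refine Subtype.ext (hx'.trans ?_)
  show torusHom T F f = 1
  rw [← MonoidHom.mem_ker, torusHom_ker hT, MonoidHom.mem_ker]
  funext j
  have e : x * xG hT (T.simpF hT j) 1 * x⁻¹ = xG hT (T.simpF hT j) 1 :=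
    DFunLike.congr_fun h (xG hT (T.simpF hT j) 1)
  have e2 : (x : GL T.I F) * T.xU F (T.simple j) 1 * (x : GL T.I F)⁻¹ = T.xU F (T.simple j) 1 :=
    congrArg Subtype.val e
  obtain ⟨χ, hχ, eχ⟩ := diag_exists_char hT hx
  rw [eχ, dU_conj_X hT hχ (simple_lt hT j.2), mul_inv_cancel_right] at e2
  have hone : χ (T.simple j) = 1 := Units.ext (by simpa using xU_inj hT (simple_lt hT j.2) e2)
  have := dU_apply_inj (T := T) (χ := fun s => ∏ i, f i ^ T.ca i s) (ψ := χ)
    (hx'.symm.trans eχ) (simple_lt hT j.2)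
  rw [hone] at this
  exact this

/-- Inner normalised automorphisms. -/
theorem card_ker_toOut [Finite F] :
    Nat.card (toOut T F).ker = Nat.card (T.datum.diagonalSubgroup F) := by
  refine (Nat.card_congr (Equiv.ofBijective (fun h : T.datum.diagonalSubgroup F =>
    (⟨⟨MulAut.conj (⟨h.1, diag_le_group hT h.2⟩ : ↥(T.datum.group F)), by
        obtain ⟨c, e⟩ := conj_diag_eq hT (x := (⟨h.1, diag_le_group hT h.2⟩ : ↥(T.datum.group F))) h.2
        rw [e]; exact diag_mem_NS hT c⟩,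
      (QuotientGroup.eq_one_iff _).mpr ⟨_, rfl⟩⟩ : (toOut T F).ker)) ⟨fun a b e => ?_, fun θ => ?_⟩)).symm
  · let A : ↥(T.datum.group F) := ⟨a.1, diag_le_group hT a.2⟩
    let B : ↥(T.datum.group F) := ⟨b.1, diag_le_group hT b.2⟩
    have e' : MulAut.conj A = MulAut.conj B := congrArg (fun x : (toOut T F).ker => x.1.1) e
    have := eq_one_of_conj hT (x := A * B⁻¹) (mul_mem a.2 (inv_mem b.2))
      (by rw [map_mul, map_inv, e', mul_inv_cancel])
    have hAB : A = B := mul_inv_eq_one.mp this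
    exact Subtype.ext (show (A : GL T.I F) = B from congrArg Subtype.val hAB)
  · obtain ⟨x, hx⟩ := (QuotientGroup.eq_one_iff _).mp (show QuotientGroup.mk' _ θ.1.1 = 1 from θ.2)
    exact ⟨⟨x, mem_diag_of_norm hT hC (hx ▸ θ.1.2)⟩, Subtype.ext (Subtype.ext hx)⟩

variable (P : Diag T) (p : ℕ) [Fact p.Prime] [CharP F p]

/-- Counting normalised automorphisms by their parameters. -/
theorem card_NS [Finite F] (S : Set (Equiv.Perm (Fin T.rank)))
    (h1 : ∀ π, AdjPres T π → SwapOK P F π → π ∈ S)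
    (h2 : ∀ π ∈ S, ∃ g ∈ NS T F, Acts P p hT g π 1 1) :
    Nat.card (NS T F) = Nat.card S * Nat.card (F ≃+* F) * Nat.card Fˣ ^ T.rank := by
  choose g hgN hg using h2
  let Φ : S × (F ≃+* F) × (Fin T.rank → Fˣ) → ↥(NS T F) := fun a =>
    ⟨diagHom hT (permC a.1.1 a.2.2) * (g a.1.1 a.1.2 * fieldFun hT a.2.1),
      mul_mem (diag_mem_NS hT _) (mul_mem (hgN _ _) (field_mem_NS hT _))⟩
  have hΦ : ∀ a, Acts P p hT (Φ a).1 a.1.1 a.2.1 a.2.2 := by
    intro a i t
    simp only [Φ, MulAut.mul_apply]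
    rw [fieldFun_x, fieldFun_x, (hg _ _ i _).1, (hg _ _ i _).2, (diagHom_x hT _ _ _).1,
      (diagHom_x hT _ _ _).2]
    simp [permC]
  have hb : Function.Bijective Φ := by
    refine ⟨fun a b e => ?_, fun θ => ?_⟩
    · have ha := hΦ a
      rw [e] at ha
      obtain ⟨e1, e2, e3⟩ := acts_unique hT hC P p ha (hΦ b)
      exact Prod.ext (Subtype.ext e1) (Prod.ext e2 e3)
    · obtain ⟨π, hπ, hsw, σ, c, hθ⟩ := P.exists_form p hT hC θ.2
      exact ⟨(⟨π, h1 π hπ hsw⟩, σ, c), Subtype.ext (acts_ext hT P p (hΦ _) hθ)⟩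
  rw [← Nat.card_congr (Equiv.ofBijective Φ hb), Nat.card_prod, Nat.card_prod, Nat.card_fun, Nat.card_fin,
    mul_assoc]

/-- The order of the outer automorphism group. -/
theorem card_out [Fintype F] {f : ℕ} (hF : Fintype.card F = p ^ f) {U U' V V' : List (List ℤ)}
    {d : List ℕ} (hd : T.chkSmith U U' V V' d = true) (S : Set (Equiv.Perm (Fin T.rank)))
    (h1 : ∀ π, AdjPres T π → SwapOK P F π → π ∈ S)
    (h2 : ∀ π ∈ S, ∃ g ∈ NS T F, Acts P p hT g π 1 1) :
    Nat.card (Cfsg.Out ↥(T.datum.group F)) =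
      Nat.card S * f * ∏ i : Fin T.rank, Nat.gcd (p ^ f - 1) (d.getD i.val 0) := by
  have hN := card_NS hT hC P p S h1 h2
  have hf : Nat.card (F ≃+* F) = f := by
    obtain ⟨e⟩ := CfsgLib.KnownC.AutPSL.ringAut_cyclic (F := F) hF
    rw [Nat.card_congr e.toEquiv, Nat.card_congr Multiplicative.toAdd, Nat.card_zmod]
  have hu : Nat.card Fˣ = p ^ f - 1 := by
    rw [Nat.card_units, Nat.card_eq_fintype_card, hF]
  rw [hf, hu, ← card_diag hT hF hd, Subgroup.card_eq_card_quotient_mul_card_subgroup (toOut T F).ker,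
    card_ker_toOut hT hC,
    Nat.card_congr (QuotientGroup.quotientKerEquivOfSurjective _ (toOut_surjective hT hC)).toEquiv,
    ← mul_assoc] at hN
  exact Nat.eq_of_mul_eq_mul_right Nat.card_pos hN

end CfsgLib.KnownB.Aut
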