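import Cfsg.Agent.Lib.KnownB.Aut.Diagram
import Cfsg.Agent.Lib.KnownA.ChevalleyGen
import Cfsg.Agent.Lib.Chevalley.Twist.Make

/-!
Diagonal and field automorphisms, and automorphisms given by a node permutation, a field
automorphism and scalars.
-/

set_option autoImplicit false

namespace CfsgLib.KnownB.Aut

open CfsgLib.Chevalley CfsgLib.Chevalley.Tbl

variable {T : Tbl} {F : Type*} [Field F]

/-- Automorphisms agreeing on the fundamental root subgroups and their opposites are equal. -/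
theorem aut_ext (hT : T.Valid) {θ θ' : MulAut ↥(T.datum.group F)}
    (h : ∀ i t, θ (xG hT (T.simpF hT i) t) = θ' (xG hT (T.simpF hT i) t) ∧
      θ (xG hT (T.negF (T.simpF hT i)) t) = θ' (xG hT (T.negF (T.simpF hT i)) t)) : θ = θ' :=
  MulEquiv.toMonoidHom_injective (CfsgLib.KnownA.ChevalleyGen.hom_ext hT θ.toMonoidHom θ'.toMonoidHom
    fun i hi t u => ⟨fun hu => by
        rw [show u = xG hT (T.simpF hT ⟨i, hi⟩) t from Subtype.ext hu]; exact (h _ t).1,
      fun hu => by
        rw [show u = xG hT (T.negF (T.simpF hT ⟨i, hi⟩)) t from Subtype.ext hu]; exact (h _ t).2⟩)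

/-- The function on `ℕ` extending values at the nodes. -/
def nodeFun (c : Fin T.rank → Fˣ) : ℕ → Fˣ := fun i => if h : i < T.rank then c ⟨i, h⟩ else 1

/-- The diagonal matrix with given values at the fundamental roots. -/
def diagMat (c : Fin T.rank → Fˣ) : GL T.I F := T.dU (T.chOf (nodeFun c))

theorem diagMat_mul (c c' : Fin T.rank → Fˣ) :
    (diagMat (c * c') : GL T.I F) = diagMat c * diagMat c' := by
  rw [diagMat, diagMat, diagMat, dU_mul]
  refine dU_congr fun s _ => ?_
  simp only [chOf, Pi.mul_apply, nodeFun, ← Finset.prod_mul_distrib, ← mul_zpow]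
  exact Finset.prod_congr rfl fun i _ => by simp

variable (hT : T.Valid)
include hT

theorem diagMat_conj (c : Fin T.rank → Fˣ) {r : ℕ} (hr : r < T.n) (t : F) :
    diagMat c * T.xU F r t * (diagMat c)⁻¹ = T.xU F r ((T.chOf (nodeFun c) r : F) * t) := by
  rw [diagMat, dU_conj_X hT (isChar_chOf hT _) hr, mul_inv_cancel_right]

theorem diagMat_map (c : Fin T.rank → Fˣ) :
    (T.datum.group F).map (MulAut.conj (diagMat c)).toMonoidHom ≤ T.datum.group F := by
  rw [Subgroup.map_le_iff_le_comap]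
  refine CfsgLib.KnownA.ChevalleyGen.group_le hT _ fun i hi t => ⟨?_, ?_⟩
  · show diagMat c * _ * (diagMat c)⁻¹ ∈ T.datum.group F
    rw [diagMat_conj hT c (simple_lt hT hi)]
    exact xU_mem_group hT (simple_lt hT hi) _
  · show diagMat c * _ * (diagMat c)⁻¹ ∈ T.datum.group F
    rw [diagMat_conj hT c (neg_lt' (simple_lt hT hi))]
    exact xU_mem_group hT (neg_lt' (simple_lt hT hi)) _

/-- Conjugation by a diagonal matrix, on the group. -/
noncomputable def diagEnd (c : Fin T.rank → Fˣ) : ↥(T.datum.group F) →* ↥(T.datum.group F) :=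
  ((MulAut.conj (diagMat c)).toMonoidHom.comp (T.datum.group F).subtype).codRestrict _
    fun g => diagMat_map hT c ⟨g, g.2, rfl⟩

theorem diagEnd_val (c : Fin T.rank → Fˣ) (g : ↥(T.datum.group F)) :
    (diagEnd hT c g : GL T.I F) = diagMat c * g * (diagMat c)⁻¹ := rfl

theorem diagEnd_mul (c c' : Fin T.rank → Fˣ) (g : ↥(T.datum.group F)) :
    diagEnd hT (c * c') g = diagEnd hT c (diagEnd hT c' g) :=
  Subtype.ext (by rw [diagEnd_val, diagEnd_val, diagEnd_val, diagMat_mul]; group)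

theorem diagEnd_one (g : ↥(T.datum.group F)) : diagEnd hT 1 g = g :=
  Subtype.ext (by
    have h : (diagMat (1 : Fin T.rank → Fˣ) : GL T.I F) = 1 := by
      have e := diagMat_mul (T := T) (1 : Fin T.rank → Fˣ) 1
      rw [one_mul] at e
      exact mul_eq_left.mp e.symm
    rw [diagEnd_val, h]; simp)

/-- Diagonal automorphisms by their values at the nodes. -/
noncomputable def diagHom : (Fin T.rank → Fˣ) →* MulAut ↥(T.datum.group F) where
  toFun c :=
    { toFun := diagEnd hT c
      invFun := diagEnd hT c⁻¹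
      left_inv := fun g => by rw [← diagEnd_mul, inv_mul_cancel, diagEnd_one]
      right_inv := fun g => by rw [← diagEnd_mul, mul_inv_cancel, diagEnd_one]
      map_mul' := map_mul (diagEnd hT c) }
  map_one' := MulEquiv.ext (diagEnd_one hT)
  map_mul' c c' := MulEquiv.ext (diagEnd_mul hT c c')

theorem diagHom_x (c : Fin T.rank → Fˣ) (i : Fin T.rank) (t : F) :
    diagHom hT c (xG hT (T.simpF hT i) t) = xG hT (T.simpF hT i) ((c i : F) * t) ∧
      diagHom hT c (xG hT (T.negF (T.simpF hT i)) t) =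
        xG hT (T.negF (T.simpF hT i)) (((c i)⁻¹ : Fˣ) * t) := by
  have e : T.chOf (nodeFun c) (T.simple i) = c i := by rw [chOf_simple hT _ i.2, nodeFun, dif_pos i.2]
  constructor <;> refine Subtype.ext ?_
  · show diagMat c * T.xU F (T.simple i) t * (diagMat c)⁻¹ = T.xU F (T.simple i) _
    rw [diagMat_conj hT c (simple_lt hT i.2), e]
  · show diagMat c * T.xU F (T.neg (T.simple i)) t * (diagMat c)⁻¹ = T.xU F (T.neg (T.simple i)) _
    rw [diagMat_conj hT c (neg_lt' (simple_lt hT i.2)),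
      (isChar_chOf hT _).neg _ (simple_lt hT i.2), e]

omit hT in
theorem charDiag_eq (χ : ℕ → Fˣ) :
    T.datum.charDiag F χ = ((T.dU χ : GL T.I F) : Matrix T.I T.I F) := by
  rw [dU_val, Cfsg.Lie.ChevalleyDatum.charDiag]
  congr 1
  funext i
  rcases i with i | i <;> simp [Tbl.scale]

theorem diagHom_isDiagonal (c : Fin T.rank → Fˣ) : T.datum.IsDiagonalAut (diagHom hT c) := by
  have hch := isChar_chOf hT (nodeFun c)
  refine ⟨T.chOf (nodeFun c), ⟨fun r hr => ?_, fun r s k hr hs h => ?_⟩, fun g => ?_⟩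
  · rw [datum_neg hr]; exact hch.neg r hr
  · rw [chainRoot_eq hT hr hs le_rfl, chain_one] at h
    rcases e : T.sum? r s with _ | ⟨u, N⟩ <;> rw [e] at h
    · simp at h
    · obtain rfl : u = k := by simpa using h
      exact hch.add r hr s hs _ N e
  · rw [charDiag_eq, charDiag_eq]
    show ((diagEnd hT c g : GL T.I F) : Matrix T.I T.I F) = _
    rw [diagEnd_val, Units.val_mul, Units.val_mul, diagMat, dU_inv]
    rfl

/-- A diagonal automorphism is given by its values at the nodes. -/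
theorem exists_diagHom {φ : MulAut ↥(T.datum.group F)} (hφ : T.datum.IsDiagonalAut φ) :
    ∃ c, φ = diagHom hT c := by
  obtain ⟨χ, hχ, hv⟩ := hφ
  have hc : T.IsChar χ :=
    ⟨fun r hr => by rw [← hχ.1 r hr, datum_neg hr], fun r hr s hs u N h => hχ.2 r s u hr hs (by
      rw [chainRoot_eq hT hr hs le_rfl, chain_one, h]; rfl)⟩
  refine ⟨fun i => χ (T.simple i), aut_ext hT fun i t => ?_⟩
  obtain ⟨h1, h2⟩ := diagHom_x hT (fun i : Fin T.rank => χ (T.simple i)) i t
  have key : ∀ (r : Fin T.n), φ (xG hT r t) = xG hT r ((χ r : F) * t) := fun r => by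
    refine Subtype.ext (Units.ext ?_)
    rw [hv, charDiag_eq, charDiag_eq, ← Units.val_mul, ← Units.val_mul,
      show (fun r => (χ r)⁻¹) = χ⁻¹ from rfl, ← dU_inv]
    show ((T.dU χ * T.xU F r t * (T.dU χ)⁻¹ : GL T.I F) : Matrix T.I T.I F) = _
    rw [dU_conj_X hT hc r.2, mul_inv_cancel_right]
    rfl
  rw [h1, h2, key, key]
  refine ⟨rfl, ?_⟩
  show xG hT _ ((χ (T.neg (T.simple i)) : F) * t) = _
  rw [hc.neg _ (simple_lt hT i.2)]

/-- Field automorphisms. -/
noncomputable def fieldFun (σ : F ≃+* F) : MulAut ↥(T.datum.group F) := (exists_field_aut hT σ).choose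

theorem fieldFun_x (σ : F ≃+* F) (r : Fin T.n) (t : F) :
    fieldFun hT σ (xG hT r t) = xG hT r (σ t) :=
  Subtype.ext ((exists_field_aut hT σ).choose_spec _ r.val t r.2 rfl)

theorem fieldFun_isField (σ : F ≃+* F) : T.datum.IsFieldAut (fieldFun hT σ) :=
  ⟨σ, fun g r t hr hg => (eq_x_iff hT hr _ _).mpr
    ((exists_field_aut hT σ).choose_spec g r t hr ((eq_x_iff hT hr t _).mp hg))⟩

/-- The hom of field automorphisms. -/
noncomputable def fieldAutHom : (F ≃+* F) →* MulAut ↥(T.datum.group F) where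
  toFun := fieldFun hT
  map_one' := aut_ext hT fun i t => by
    rw [fieldFun_x, fieldFun_x]; exact ⟨rfl, rfl⟩
  map_mul' σ τ := aut_ext hT fun i t => by
    rw [MulAut.mul_apply, MulAut.mul_apply, fieldFun_x, fieldFun_x, fieldFun_x, fieldFun_x, fieldFun_x,
      fieldFun_x]
    exact ⟨rfl, rfl⟩

theorem exists_fieldFun {φ : MulAut ↥(T.datum.group F)} (hφ : T.datum.IsFieldAut φ) :
    ∃ σ, φ = fieldFun hT σ := by
  obtain ⟨σ, hσ⟩ := hφ
  have key : ∀ (r : Fin T.n) (t : F), φ (xG hT r t) = xG hT r (σ t) := fun r t =>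
    Subtype.ext ((eq_x_iff hT r.2 _ _).mp (hσ _ r t r.2 ((eq_x_iff hT r.2 t _).mpr rfl)))
  exact ⟨σ, aut_ext hT fun i t => by rw [key, key, fieldFun_x, fieldFun_x]; exact ⟨rfl, rfl⟩⟩

omit hT in
/-- The parameters of an automorphism. -/
def Acts (P : Diag T) (p : ℕ) (hT : T.Valid) (θ : MulAut ↥(T.datum.group F))
    (π : Equiv.Perm (Fin T.rank)) (σ : F ≃+* F) (c : Fin T.rank → Fˣ) : Prop :=
  ∀ i t, θ (xG hT (T.simpF hT i) t) = xG hT (T.simpF hT (π i)) ((c i : F) * σ t ^ P.e p i (π i)) ∧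
    θ (xG hT (T.negF (T.simpF hT i)) t) =
      xG hT (T.negF (T.simpF hT (π i))) (((c i)⁻¹ : Fˣ) * σ t ^ P.e p i (π i))

variable (P : Diag T) (p : ℕ)

theorem acts_diag (c : Fin T.rank → Fˣ) : Acts P p hT (diagHom hT c) 1 1 c := fun i t => by
  rw [Equiv.Perm.one_apply, P.e_id, pow_one]
  exact diagHom_x hT c i t

theorem acts_field (σ : F ≃+* F) : Acts P p hT (fieldFun hT σ) 1 σ 1 := fun i t => by
  rw [Equiv.Perm.one_apply, P.e_id, pow_one]
  simp only [fieldFun_x, Pi.one_apply, inv_one, Units.val_one, one_mul, and_self]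

theorem acts_ext {θ θ' : MulAut ↥(T.datum.group F)} {π : Equiv.Perm (Fin T.rank)} {σ : F ≃+* F}
    {c : Fin T.rank → Fˣ} (h : Acts P p hT θ π σ c) (h' : Acts P p hT θ' π σ c) : θ = θ' :=
  aut_ext hT fun i t => ⟨(h i t).1.trans (h' i t).1.symm, (h i t).2.trans (h' i t).2.symm⟩

/-- A pure graph part is a graph automorphism. -/
theorem isGraphAut_of_acts [CharP F p] {θ : MulAut ↥(T.datum.group F)} {π : Equiv.Perm (Fin T.rank)}
    (hπ : AdjPres T π) (h : Acts P p hT θ π 1 1) : T.datum.IsGraphAut θ := by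
  refine ⟨π, P.isDiagramSymmetry hT hπ, fun g i t => ?_⟩
  rw [ringChar.eq F p, P.e_eq, datum_simple i.2, datum_simple (π i).2, datum_neg (simple_lt hT i.2),
    datum_neg (simple_lt hT (π i).2)]
  refine ⟨fun hg => ?_, fun hg => ?_⟩
  · rw [eq_x_iff hT (simple_lt hT i.2)] at hg
    rw [eq_x_iff hT (simple_lt hT (π i).2), show g = xG hT (T.simpF hT i) t from Subtype.ext hg,
      (h i t).1, Pi.one_apply, Units.val_one, one_mul]
    rfl
  · rw [eq_x_iff hT (neg_lt' (simple_lt hT i.2))] at hg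
    rw [eq_x_iff hT (neg_lt' (simple_lt hT (π i).2)),
      show g = xG hT (T.negF (T.simpF hT i)) t from Subtype.ext hg,
      (h i t).2, Pi.one_apply, inv_one, Units.val_one, one_mul]
    rfl

end CfsgLib.KnownB.Aut
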