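import Cfsg.Agent.Lib.KnownB.Aut.Roots

/-!
Rank one facts: which root subgroups commute, and the elements exchanging opposite root subgroups.
-/

set_option autoImplicit false

namespace CfsgLib.KnownB.Aut

open CfsgLib.Chevalley CfsgLib.Chevalley.Tbl

variable {T : Tbl} {F : Type*} [Field F] (hT : T.Valid)
include hT

theorem xG_zero (r : Fin T.n) : xG (F := F) hT r 0 = 1 := Subtype.ext (xU_zero hT r.2)

theorem xG_add (r : Fin T.n) (a b : F) : xG hT r a * xG hT r b = xG hT r (a + b) :=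
  Subtype.ext (xU_add hT r.2 a b)

theorem xG_inv (r : Fin T.n) (a : F) : (xG hT r a)⁻¹ = xG hT r (-a) :=
  Subtype.ext (xU_inv hT r.2 a)

theorem xG_inj {r : Fin T.n} {a b : F} (h : xG hT r a = xG hT r b) : a = b :=
  xU_inj hT r.2 (congrArg Subtype.val h)

/-- `n_r(t)` inside the group. -/
noncomputable def nG (r : Fin T.n) (t : F) : ↥(T.datum.group F) :=
  xG hT r t * xG hT (T.negF r) (-t⁻¹) * xG hT r t

theorem nG_val (r : Fin T.n) (t : F) : (nG hT r t : GL T.I F) = T.nU F r t := rfl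

theorem nG_conj (r : Fin T.n) (u : Fˣ) (t : F) :
    ∃ c : Fˣ, nG hT r (u : F) * xG hT r t * (nG hT r (u : F))⁻¹ = xG hT (T.negF r) ((c : F) * t) := by
  refine ⟨-(u ^ T.pair r (T.neg r)), Subtype.ext ?_⟩
  show T.nU F r u * T.xU F r t * (T.nU F r u)⁻¹ = T.xU F (T.neg r) _
  rw [nU_t hT r.2, mul_assoc _ _ (T.xU F r t), nU_conj hT r.2, ← mul_assoc,
    dU_hCh_xU hT r.2 u (neg_lt' r.2), mul_assoc (T.xU F _ _) (T.dU _), mul_inv_cancel_right,
    Units.val_neg, mul_neg, neg_mul]

variable (hC : T.chkComm = true)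
include hC

theorem xG_root_eq {r s : Fin T.n} {a b : F} (ha : a ≠ 0) (h : xG hT r a = xG hT s b) : r = s :=
  xU_root_eq hT hC ha (congrArg Subtype.val h)

omit hC in
theorem negF_ne (r : Fin T.n) : T.negF r ≠ r := fun h => neg_ne r.2 (congrArg Fin.val h)

/-- A nontrivial element of `X_{-r}` moves every nontrivial element of `X_r` out of `X_r`. -/
theorem conj_not_mem (r : Fin T.n) {b t : F} (hb : b ≠ 0) (ht : t ≠ 0) :
    xG hT (T.negF r) b * xG hT r t * (xG hT (T.negF r) b)⁻¹ ∉ RX T F r := by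
  intro h
  obtain ⟨s, hs⟩ := (mem_RX hT).mp h
  let u : Fˣ := Units.mk0 (-b⁻¹) (neg_ne_zero.mpr (inv_ne_zero hb))
  have e : xG hT (T.negF r) b = xG hT r (-(u : F)) * nG hT r (u : F) * xG hT r (-(u : F)) := by
    rw [nG, show -(u : F)⁻¹ = b by simp [u, inv_neg]]
    simp only [← mul_assoc, xG_add, neg_add_cancel, xG_zero, one_mul]
    rw [mul_assoc, xG_add, add_neg_cancel, xG_zero, mul_one]
  obtain ⟨c, hc⟩ := nG_conj hT r u t
  have e2 : xG hT r (-(u : F)) * xG hT (T.negF r) ((c : F) * t) * (xG hT r (-(u : F)))⁻¹ = xG hT r s := by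
    rw [← hs, e, ← hc]
    have : xG hT r (-(u : F)) * xG hT r t * (xG hT r (-(u : F)))⁻¹ = xG hT r t := by
      rw [xG_inv, xG_add, xG_add]; congr 1; ring
    calc xG hT r (-(u : F)) * (nG hT r (u : F) * xG hT r t * (nG hT r (u : F))⁻¹) * (xG hT r (-(u : F)))⁻¹
        = xG hT r (-(u : F)) * nG hT r (u : F) *
          (xG hT r (-(u : F)) * xG hT r t * (xG hT r (-(u : F)))⁻¹) *
          (nG hT r (u : F))⁻¹ * (xG hT r (-(u : F)))⁻¹ := by rw [this]; group
      _ = _ := by group
  have e3 : xG hT (T.negF r) ((c : F) * t) = xG hT r s := by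
    calc xG hT (T.negF r) ((c : F) * t)
        = (xG hT r (-(u : F)))⁻¹ * (xG hT r (-(u : F)) * xG hT (T.negF r) ((c : F) * t) *
            (xG hT r (-(u : F)))⁻¹) * xG hT r (-(u : F)) := by group
      _ = xG hT r s := by rw [e2, xG_inv, xG_add, xG_add]; congr 1; ring
  exact negF_ne hT r (xG_root_eq hT hC (mul_ne_zero c.ne_zero ht) e3)

/-- The criterion for exchanging opposite root subgroups. -/
theorem exchange_criterion (r : Fin T.n) {a b : F} (ha : a ≠ 0)
    (h : xG hT r a * xG hT (T.negF r) b * xG hT r a * xG hT r 1 *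
      (xG hT r a * xG hT (T.negF r) b * xG hT r a)⁻¹ ∈ RX T F (T.negF r)) : b = -a⁻¹ := by
  by_cases hb : b = 0
  · exfalso
    subst hb
    rw [xG_zero, mul_one, xG_add, xG_add, xG_inv, xG_add] at h
    obtain ⟨s, hs⟩ := (mem_RX hT).mp h
    rw [show a + a + 1 + -(a + a) = (1 : F) by ring] at hs
    exact negF_ne hT r (xG_root_eq hT hC one_ne_zero hs).symm
  let u : Fˣ := Units.mk0 (-b⁻¹) (neg_ne_zero.mpr (inv_ne_zero hb))
  have e : xG hT r a * xG hT (T.negF r) b * xG hT r a =
      xG hT r (a - u) * nG hT r (u : F) * xG hT r (a - u) := by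
    rw [nG, show -(u : F)⁻¹ = b by simp [u, inv_neg]]
    simp only [← mul_assoc, xG_add, sub_add_cancel]
    rw [mul_assoc _ (xG hT r (u : F)) (xG hT r (a - u)), xG_add, add_sub_cancel]
  obtain ⟨c, hc⟩ := nG_conj hT r u 1
  have e2 : xG hT r (a - u) * xG hT (T.negF r) ((c : F) * 1) * (xG hT r (a - u))⁻¹ ∈ RX T F (T.negF r) := by
    have : xG hT r (a - u) * xG hT r 1 * (xG hT r (a - u))⁻¹ = xG hT r 1 := by
      rw [xG_inv, xG_add, xG_add]; congr 1; ring
    convert h using 1
    rw [e, ← hc]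
    calc xG hT r (a - u) * (nG hT r (u : F) * xG hT r 1 * (nG hT r (u : F))⁻¹) * (xG hT r (a - u))⁻¹
        = xG hT r (a - u) * nG hT r (u : F) * (xG hT r (a - u) * xG hT r 1 * (xG hT r (a - u))⁻¹) *
          (nG hT r (u : F))⁻¹ * (xG hT r (a - u))⁻¹ := by rw [this]; group
      _ = _ := by group
  by_contra hne
  have hau : a - (u : F) ≠ 0 := by
    intro h0
    rw [sub_eq_zero] at h0
    refine hne ?_
    rw [h0]; simp [u, inv_neg]
  have := conj_not_mem hT hC (T.negF r) hau (mul_ne_zero c.ne_zero one_ne_zero)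
  rw [negF_negF] at this
  exact this e2

omit hC in
theorem sum?_simple_neg {a b : Fin T.rank} (h : a ≠ b) :
    T.sum? (T.simple a) (T.neg (T.simple b)) = none := by
  have ha := simple_lt hT a.2
  have hb := neg_lt' (simple_lt hT b.2)
  rcases e : T.sum? (T.simple a) (T.neg (T.simple b)) with _ | ⟨v, N⟩
  · rfl
  exfalso
  have hv := sum?_lt hT ha hb e
  have c1 := co_sum hT ha hb e a.2
  have c2 := co_sum hT ha hb e b.2
  rw [co_neg hT (simple_lt hT b.2) a.2, co_simple hT a.2 a.2, co_simple hT b.2 a.2, if_pos rfl,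
    if_neg fun h' => h (Fin.ext h')] at c1
  rw [co_neg hT (simple_lt hT b.2) b.2, co_simple hT a.2 b.2, co_simple hT b.2 b.2, if_pos rfl,
    if_neg fun h' => h (Fin.ext h'.symm)] at c2
  rcases hp : T.isPos v with _ | _
  · have := co_nonneg hT (neg_lt' hv) (by rw [isPos_neg hv, hp]; rfl) a.2
    rw [co_neg hT hv a.2] at this
    omega
  · have := co_nonneg hT hv hp b.2
    omega

/-- Root subgroups of `p_a` and `-p_b` commute for `a ≠ b`. -/
theorem commute_simple_neg {a b : Fin T.rank} (h : a ≠ b) (t u : F) :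
    Commute (xG hT (T.simpF hT a) t) (xG hT (T.negF (T.simpF hT b)) u) := by
  have ha := simple_lt hT a.2
  have hb := neg_lt' (simple_lt hT b.2)
  refine Subtype.ext ?_
  show T.xU F (T.simple a) t * T.xU F (T.neg (T.simple b)) u = T.xU F (T.neg (T.simple b)) u * T.xU F (T.simple a) t
  rw [comm_xU hT hC ha hb ?_ ?_, commT_eq_nil hT ha hb (sum?_simple_neg hT h), List.map_nil,
    List.prod_nil, mul_one]
  · intro e
    have h1 := half_le_simpF hT a
    have h2 := negF_lt (half_le_simpF hT b)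
    have e' : (T.negF (T.simpF hT b)).val = (T.simpF hT a).val := e
    omega
  · intro e
    refine h.symm (simpF_injective hT (Fin.ext ?_))
    have := congrArg T.neg e
    rwa [neg_neg' (simple_lt hT b.2), neg_neg' ha] at this

theorem not_commute_simple_neg (a : Fin T.rank) :
    ¬ Commute (xG hT (T.simpF hT a) (1 : F)) (xG hT (T.negF (T.simpF hT a)) 1) := fun h => by
  refine conj_not_mem hT hC (T.simpF hT a) (one_ne_zero (α := F)) (one_ne_zero (α := F))
    ((mem_RX hT).mpr ⟨1, ?_⟩)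
  rw [← h.eq, mul_inv_cancel_right]

/-- Fundamental root subgroups of adjacent nodes do not commute. -/
theorem not_commute_simple {i k : Fin T.rank} (hne : i ≠ k) (ha : T.ca k (T.simple i) ≠ 0) :
    ¬ ∀ t u : F, Commute (xG hT (T.simpF hT i) t) (xG hT (T.simpF hT k) u) := fun h => by
  have h1 : Commute (xG hT (T.simpF hT i) 1) (nG hT (T.simpF hT k) (1 : F)) :=
    ((h 1 1).mul_right (commute_simple_neg hT hC hne 1 _)).mul_right (h 1 1)
  have e : T.xU F (T.simple i) (1 : F) * T.nU F (T.simple k) 1 =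
      T.nU F (T.simple k) 1 * T.xU F (T.simple i) 1 := congrArg Subtype.val h1.eq
  rw [nU_simple_xU hT k.2 (simple_lt hT i.2)] at e
  have e2 := mul_right_cancel e
  have hs := xU_root_eq hT hC one_ne_zero (a := T.simpF hT i)
    (b := ⟨T.refl k (T.simple i), refl_lt hT k.2 (simple_lt hT i.2)⟩) e2
  have := co_refl hT k.2 (simple_lt hT i.2) (j := k.val) k.2
  rw [← show T.simple i = T.refl k (T.simple i) from congrArg Fin.val hs, if_pos rfl] at this
  omega

/-- Fundamental root subgroups of non-adjacent nodes commute. -/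
theorem commute_simple {i k : Fin T.rank} (hne : i ≠ k) (h : T.sum? (T.simple i) (T.simple k) = none)
    (t u : F) : Commute (xG hT (T.simpF hT i) t) (xG hT (T.simpF hT k) u) := by
  have ha := simple_lt hT i.2
  have hb := simple_lt hT k.2
  refine Subtype.ext ?_
  show T.xU F (T.simple i) t * T.xU F (T.simple k) u = T.xU F (T.simple k) u * T.xU F (T.simple i) t
  rw [comm_xU hT hC ha hb ?_ ?_, commT_eq_nil hT ha hb h, List.map_nil, List.prod_nil, mul_one]
  · exact fun e => hne.symm (simpF_injective hT (Fin.ext e))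
  · intro e
    have h1 := half_le_simpF hT k
    have h2 := negF_lt (half_le_simpF hT i)
    have e' : (T.simpF hT k).val = (T.negF (T.simpF hT i)).val := e
    omega

end CfsgLib.KnownB.Aut
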