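import Cfsg.Agent.Lib.KnownB.Aut.Base
import Cfsg.Agent.Lib.BNPair.Parabolic

/-!
A normalised automorphism permutes the fundamental root subgroups and their opposites.
-/

set_option autoImplicit false

namespace CfsgLib.KnownB.Aut

open CfsgLib.Chevalley CfsgLib.Chevalley.Tbl

variable {T : Tbl} {F : Type*} [Field F]

/-- A root subgroup inside the group. -/
abbrev RX (T : Tbl) (F : Type*) [Field F] (r : ℕ) : Subgroup ↥(T.datum.group F) :=
  (T.datum.rootSubgroup F r).subgroupOf (T.datum.group F)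

variable (hT : T.Valid) (hC : T.chkComm = true)
include hT

theorem mem_RX {r : Fin T.n} {g : ↥(T.datum.group F)} : g ∈ RX T F r ↔ ∃ t, g = xG hT r t := by
  rw [Subgroup.mem_subgroupOf, mem_rootSubgroup_iff hT r.2]
  exact exists_congr fun t => ⟨fun h => Subtype.ext h, fun h => congrArg Subtype.val h⟩

theorem map_conj_RX {n : ↥(T.datum.group F)} {w : Equiv.Perm (Fin T.n)} (hm : T.Mono (n : GL T.I F) w)
    (r : Fin T.n) : (RX T F r).map (MulAut.conj n).toMonoidHom = RX T F (w r) := by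
  obtain ⟨c, hc⟩ := hm.conj r
  ext x
  rw [Subgroup.mem_map, mem_RX hT]
  constructor
  · rintro ⟨y, hy, rfl⟩
    obtain ⟨t, rfl⟩ := (mem_RX hT).mp hy
    refine ⟨c * t, Subtype.ext ?_⟩
    show (n : GL T.I F) * T.xU F r t * (n : GL T.I F)⁻¹ = _
    rw [show (n : GL T.I F) * T.xU F r t = _ from (hc t).1, mul_inv_cancel_right]
    rfl
  · rintro ⟨t, rfl⟩
    refine ⟨xG hT r ((c : F)⁻¹ * t), (mem_RX hT).mpr ⟨_, rfl⟩, Subtype.ext ?_⟩
    show (n : GL T.I F) * T.xU F r ((c : F)⁻¹ * t) * (n : GL T.I F)⁻¹ = _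
    rw [show (n : GL T.I F) * T.xU F r ((c : F)⁻¹ * t) = _ from (hc _).1, mul_inv_cancel_right, ← mul_assoc,
      mul_inv_cancel₀ c.ne_zero, one_mul]
    rfl

/-- The fundamental monomial element. -/
noncomputable def sG (i : Fin T.rank) : ↥(T.datum.group F) :=
  ⟨T.nU F (T.simple i) 1, nU_mem_group hT (simple_lt hT i.2) 1⟩

/-- The minimal parabolic subgroup of a node. -/
noncomputable def MM (i : Fin T.rank) : Subgroup ↥(T.datum.group F) :=
  BB T F ⊔ Subgroup.closure {sG hT i}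

theorem BB_le_MM (i : Fin T.rank) : BB T F ≤ MM (F := F) hT i := le_sup_left

theorem sG_mem (i : Fin T.rank) : sG hT i ∈ MM (F := F) hT i :=
  Subgroup.mem_sup_right (Subgroup.subset_closure rfl)

theorem refP_ne_one (i : Fin T.rank) : T.refP hT i ≠ 1 := fun h => by
  have h1 := refP_simpF hT i
  rw [h, Equiv.Perm.one_apply] at h1
  have h2 := half_le_simpF hT i
  have h3 := negF_lt h2
  rw [← h1] at h3
  omega

theorem sG_not_mem (i : Fin T.rank) : sG hT i ∉ BB T F := fun h => by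
  have hd : T.nU F (T.simple i) 1 ∈ T.datum.diagonalSubgroup F :=
    (borel_inf_monomial (T := T) (F := F) hT).le ⟨h, nU_simple_mem_N hT i⟩
  exact refP_ne_one hT i ((mono_nU_simple hT i).unique (mono_diag hT hd))

/-- The transposed fundamental monomial element. -/
theorem sG_mul_x (i : Fin T.rank) {t : F} (ht : t ≠ 0) :
    ∃ b ∈ BB T F, sG hT i * xG hT (T.simpF hT i) t = b * xG hT (T.negF (T.simpF hT i)) t⁻¹ := by
  have hr := simple_lt hT i.2
  have hd : T.dU (T.hCh (T.simple i) (Units.mk0 (-t) (neg_ne_zero.mpr ht))) ∈ T.datum.diagonalSubgroup F := by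
    rw [diagonalSubgroup_eq hT]
    exact Subgroup.subset_closure ⟨_, hr, _, rfl⟩
  refine ⟨(⟨_, diag_le_group hT hd⟩ : ↥(T.datum.group F))⁻¹ * xG hT (T.simpF hT i) (-t),
    mul_mem (inv_mem (Subgroup.mem_sup_right hd)) (UU_le_BB (xG_mem_UU hT (half_le_simpF hT i) _)),
    Subtype.ext ?_⟩
  have h := nU_t (F := F) hT hr (Units.mk0 (-t) (neg_ne_zero.mpr ht))
  show T.nU F (T.simple i) 1 * T.xU F (T.simple i) t =
    (T.dU _)⁻¹ * T.xU F (T.simple i) (-t) * T.xU F (T.neg (T.simple i)) t⁻¹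
  rw [mul_assoc, eq_inv_mul_iff_mul_eq, ← mul_assoc, ← h, Units.val_mk0, nU,
    show -(-t)⁻¹ = t⁻¹ by rw [inv_neg, neg_neg], mul_assoc _ (T.xU F (T.simple i) (-t)),
    xU_add hT hr, neg_add_cancel, xU_zero hT hr, mul_one]

include hC

/-- The elements of a minimal parabolic subgroup. -/
theorem mem_MM {i : Fin T.rank} {g : ↥(T.datum.group F)} (hg : g ∈ MM hT i) :
    g ∈ BB T F ∨ ∃ b ∈ BB T F, ∃ t, g = b * sG hT i * xG hT (T.simpF hT i) t := by
  obtain ⟨P, hP⟩ := exists_min_parabolic (F := F) hT hC i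
  have hle : MM (F := F) hT i ≤ P.subgroupOf (T.datum.group F) := by
    refine sup_le (fun x hx => ?_) ((Subgroup.closure_le _).mpr ?_)
    · show (x : GL T.I F) ∈ (P : Set (GL T.I F))
      rw [hP]; exact Or.inl hx
    · rintro x rfl
      show T.nU F (T.simple i) 1 ∈ (P : Set (GL T.I F))
      rw [hP]
      exact Or.inr (DoubleCoset.mem_doubleCoset.mpr ⟨1, one_mem _, 1, one_mem _, by simp⟩)
  have h2 : (g : GL T.I F) ∈ (P : Set (GL T.I F)) := hle hg
  rw [hP] at h2
  rcases h2 with h2 | h2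
  · exact Or.inl h2
  refine Or.inr ?_
  obtain ⟨b, hb, c, hc, e⟩ := DoubleCoset.mem_doubleCoset.mp h2
  obtain ⟨u, hu, h, hh, rfl⟩ := (mem_borel_iff hT).mp hc
  have hu' : h⁻¹ * u * h ∈ T.rootGen F (fun r => T.half ≤ r) := by
    rw [← posUnipotent_rootGen hT]
    have hN : h⁻¹ ∈ Subgroup.normalizer (T.datum.posUnipotent F : Set (GL T.I F)) := by
      rw [posUnipotent_rootGen hT]; exact diag_le_normalizer hT _ (inv_mem hh)
    have := (Subgroup.mem_normalizer_iff.mp hN u).mp hu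
    rwa [inv_inv] at this
  obtain ⟨a, ha, x, hx, hax⟩ := exists_factor hT hC (fun r => T.half ≤ r ∧ r ≠ T.simple i) (· = T.simple i)
    (fun r _ hrp => by by_cases h : r = T.simple i
                       · exact Or.inr h
                       · exact Or.inl ⟨hrp, h⟩) T.half T.half (Nat.two_mul _).symm le_rfl _ hu'
  rw [rootGen_eq_singleton hT (simple_lt hT i.2), mem_rootSubgroup_iff hT (simple_lt hT i.2)] at hx
  obtain ⟨t, rfl⟩ := hx
  set s := T.nU F (T.simple i) 1
  have hsa : s * a * s⁻¹ ∈ T.datum.borelSubgroup F := by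
    refine Subgroup.mem_sup_left ?_
    rw [posUnipotent_rootGen hT]
    exact conj_mem_rootGen hT (mono_nU_simple hT i) (fun r hr => refP_pos hT hr.1 fun e => hr.2 (by rw [e]; rfl)) ha
  have hsh : s * h * s⁻¹ ∈ T.datum.borelSubgroup F :=
    Subgroup.mem_sup_right (conj_diag hT (nU_simple_mem_N hT i) hh)
  have hB := mul_mem (mul_mem hb hsh) hsa
  refine ⟨⟨_, borel_le_group hT hB⟩, hB, t, Subtype.ext ?_⟩
  show (g : GL T.I F) = b * (s * h * s⁻¹) * (s * a * s⁻¹) * s * T.xU F (T.simple i) t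
  calc (g : GL T.I F) = b * s * (h * (h⁻¹ * u * h)) := by rw [e]; group
    _ = _ := by rw [hax]; group

/-- The opposite root subgroup of a node, intrinsically. -/
theorem MM_inf_VV (i : Fin T.rank) :
    MM (F := F) hT i ⊓ VV T F = RX T F (T.negF (T.simpF hT i)) := by
  refine le_antisymm ?_ fun g hg => ?_
  · intro v hvv
    obtain ⟨hv, hvV⟩ := Subgroup.mem_inf.mp hvv
    rcases mem_MM hT hC hv with h | ⟨b, hb, t, e⟩
    · have h0 : v = 1 := Subgroup.mem_bot.mp ((BB_inf_VV (T := T) (F := F) hT).le ⟨h, hvV⟩)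
      exact (mem_RX hT).mpr ⟨0, by rw [h0]; exact Subtype.ext (xU_zero hT (Fin.isLt _)).symm⟩
    by_cases ht : t = 0
    · exfalso
      subst ht
      rw [show xG hT (T.simpF hT i) (0 : F) = 1 from Subtype.ext (xU_zero hT (Fin.isLt _)), mul_one] at e
      obtain ⟨n0, w0, hw0, hm0, hn0, hiff, hUV, -⟩ := exists_n0 (F := F) hT
      obtain ⟨y, hy, he⟩ := hUV.ge hvV
      have he' : (n0 : GL T.I F) * y * (n0 : GL T.I F)⁻¹ = b * T.nU F (T.simple i) 1 := by
        rw [← show (v : GL T.I F) = (b : GL T.I F) * T.nU F (T.simple i) 1 from congrArg Subtype.val e, ← he]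
        rfl
      have hy' : (y : GL T.I F) ∈ T.rootGen F (T.negSet w0) :=
        rootGen_mono (fun r hr hp => ⟨hr, hp, (hiff ⟨r, hr⟩).mp hp⟩) ((posUnipotent_rootGen (F := F) hT).le hy)
      obtain ⟨hd, -⟩ := canonical_unique hT hC hb (one_mem _)
        (mul_mem (nU_simple_mem_N hT i) hn0) hn0 ((mono_nU_simple hT i).mul hm0)
        (one_mem _) hy' (w := T.refP hT i * w0) (by
          rw [mul_one, one_mul, ← mul_assoc]
          show (b : GL T.I F) * T.nU F (T.simple i) 1 * n0 = n0 * y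
          rw [← he', inv_mul_cancel_right])
      have h1 := (((mono_nU_simple hT i).mul hm0).inv.mul hm0).unique (mono_diag hT hd)
      refine refP_ne_one hT i ?_
      rw [_root_.mul_inv_rev, mul_assoc, inv_mul_eq_one] at h1
      exact inv_eq_one.mp (mul_eq_right.mp h1.symm)
    · obtain ⟨b', hb', e'⟩ := sG_mul_x hT i ht
      rw [mul_assoc, e', ← mul_assoc] at e
      have hneg : xG hT (T.negF (T.simpF hT i)) t⁻¹ ∈ VV T F :=
        xG_mem_VV hT (negF_lt (half_le_simpF hT i)) _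
      have h0 : b * b' = 1 := Subgroup.mem_bot.mp ((BB_inf_VV (T := T) (F := F) hT).le
        (Subgroup.mem_inf.mpr ⟨mul_mem hb hb', by
          rw [eq_mul_inv_of_mul_eq e.symm]
          exact mul_mem hvV (inv_mem hneg)⟩))
      rw [h0, one_mul] at e
      exact (mem_RX hT).mpr ⟨_, e⟩
  · obtain ⟨t, rfl⟩ := (mem_RX hT).mp hg
    refine Subgroup.mem_inf.mpr ⟨?_, xG_mem_VV hT (negF_lt (half_le_simpF hT i)) _⟩
    have h1 : xG hT (T.negF (T.simpF hT i)) t = sG hT i * xG hT (T.simpF hT i) (-t) * (sG hT i)⁻¹ := by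
      refine Subtype.ext ?_
      show T.xU F (T.neg (T.simple i)) t = _ * T.xU F (T.simple i) (-t) * _
      rw [show (sG (F := F) hT i : GL T.I F) = T.nU F (T.simple i) 1 from rfl,
        nU_simple_conj hT i.2, neg_neg]
      exact (mul_inv_cancel_right _ _).symm
    rw [h1]
    exact mul_mem (mul_mem (sG_mem hT i) (BB_le_MM hT i (UU_le_BB (xG_mem_UU hT (half_le_simpF hT i) _))))
      (inv_mem (sG_mem hT i))

theorem exists_MM_le {M : Subgroup ↥(T.datum.group F)} (hle : BB T F ≤ M) (hne : M ≠ BB T F) :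
    ∃ j, MM hT j ≤ M := by
  by_contra hno
  push Not at hno
  refine hne ?_
  have h := CfsgLib.BNPair.Parabolic.eq_parabolic (bnPair hT hC F) (M := M) hle
  rw [h]
  have hempty : (bnPair hT hC F).S ∩ (M : Set ↥(T.datum.group F)) = ∅ := by
    ext s
    simp only [Set.mem_empty_iff_false, iff_false]
    rintro ⟨⟨i, hi, hs⟩, hsM⟩
    rw [eq_nMat_simple_iff hT hi] at hs
    refine hno ⟨i, hi⟩ (sup_le hle ((Subgroup.closure_le _).mpr ?_))
    rintro x rfl
    have e : s = sG hT ⟨i, hi⟩ := Subtype.ext hs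
    exact e ▸ hsM
  rw [hempty, Cfsg.BNPair.parabolic, Subgroup.closure_empty, sup_bot_eq]
  rfl

theorem MM_le_MM {i k : Fin T.rank} (h : MM (F := F) hT k ≤ MM hT i) : k = i := by
  rcases mem_MM hT hC (h (sG_mem hT k)) with h1 | ⟨b, hb, t, e⟩
  · exact absurd h1 (sG_not_mem hT k)
  have hu : T.xU F (T.simple i) t ∈ T.rootGen F (T.negSet (T.refP hT i)) := by
    refine xU_mem_rootGen (P := T.negSet (T.refP hT i)) (simple_lt hT i.2) ⟨simple_lt hT i.2, ?_, ?_⟩ t
    · exact half_le_simpF hT i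
    · rw [show (⟨T.simple i, simple_lt hT i.2⟩ : Fin T.n) = T.simpF hT i from rfl, refP_simpF]
      exact negF_lt (half_le_simpF hT i)
  obtain ⟨hd, -⟩ := canonical_unique hT hC hb (one_mem _) (nU_simple_mem_N hT i) (nU_simple_mem_N hT k)
    (mono_nU_simple hT i) hu (one_mem _) (w' := T.refP hT k) (by
      rw [one_mul, mul_one]; exact (congrArg Subtype.val e).symm)
  have h2 := ((mono_nU_simple hT i).inv.mul (mono_nU_simple hT k)).unique (mono_diag hT hd)
  rw [inv_mul_eq_one] at h2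
  exact (refP_injective hT h2).symm

omit hT hC in
theorem Norm.symm {θ : MulAut ↥(T.datum.group F)} (h : Norm θ) : Norm θ⁻¹ := by
  constructor
  · conv_lhs => rw [← h.mapU]
    rw [Subgroup.map_map]
    convert Subgroup.map_id _
    ext x
    simp
  · conv_lhs => rw [← h.mapV]
    rw [Subgroup.map_map]
    convert Subgroup.map_id _
    ext x
    simp

theorem exists_image_MM {θ : MulAut ↥(T.datum.group F)} (h : Norm θ) (i : Fin T.rank) :
    ∃ j, (MM hT i).map θ.toMonoidHom = MM hT j := by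
  have hne : ∀ (σ : MulAut ↥(T.datum.group F)), Norm σ → ∀ k, (MM hT k).map σ.toMonoidHom ≠ BB T F := by
    intro σ hσ k e
    rw [← hσ.mapB hT hC] at e
    exact sG_not_mem hT k (Subgroup.map_injective σ.injective e ▸ sG_mem hT k)
  obtain ⟨j, hj⟩ := exists_MM_le hT hC
    (le_of_eq_of_le (h.mapB hT hC).symm (Subgroup.map_mono (BB_le_MM hT i))) (hne θ h i)
  obtain ⟨k, hk⟩ := exists_MM_le hT hC
    (le_of_eq_of_le (h.symm.mapB hT hC).symm (Subgroup.map_mono (BB_le_MM hT j))) (hne θ⁻¹ h.symm j)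
  have hback : ((MM hT i).map θ.toMonoidHom).map (θ⁻¹ : MulAut ↥(T.datum.group F)).toMonoidHom = MM hT i := by
    rw [Subgroup.map_map]
    convert Subgroup.map_id _
    ext x
    simp
  have hki : k = i := MM_le_MM hT hC (hk.trans (le_of_le_of_eq (Subgroup.map_mono hj) hback))
  subst hki
  refine ⟨j, le_antisymm ?_ hj⟩
  intro x hx
  obtain ⟨y, hy, rfl⟩ := hx
  obtain ⟨z, hz, e⟩ := hk hy
  have : θ y = z := by
    rw [← e]
    show θ (θ⁻¹ z) = z
    exact θ.apply_symm_apply z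
  rw [show θ.toMonoidHom y = z from this]
  exact hz

theorem exists_neg_perm {θ : MulAut ↥(T.datum.group F)} (h : Norm θ) :
    ∃ π : Equiv.Perm (Fin T.rank), ∀ i,
      (RX T F (T.negF (T.simpF hT i))).map θ.toMonoidHom = RX T F (T.negF (T.simpF hT (π i))) := by
  choose f hf using exists_image_MM hT hC h
  have hinj : Function.Injective f := fun a b e => by
    have := Subgroup.map_injective θ.injective ((hf a).trans ((congrArg (MM hT) e).trans (hf b).symm))
    exact MM_le_MM hT hC this.le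
  refine ⟨Equiv.ofBijective f (Finite.injective_iff_bijective.mp hinj), fun i => ?_⟩
  rw [← MM_inf_VV hT hC, Subgroup.map_inf _ _ _ θ.injective, hf, h.mapV, MM_inf_VV hT hC]
  rfl

omit hC in
/-- The longest element sends opposite fundamental roots to fundamental roots. -/
theorem exists_simple_image {w : Equiv.Perm (Fin T.n)} (hw : w ∈ T.WP hT)
    (hiff : ∀ s : Fin T.n, T.half ≤ s.val ↔ (w s).val < T.half) (i : Fin T.rank) :
    ∃ j, w (T.negF (T.simpF hT i)) = T.simpF hT j := by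
  set r := w (T.negF (T.simpF hT i)) with hr
  have hpos : T.half ≤ r.val := by
    by_contra hlt
    exact absurd ((hiff _).mpr (not_le.mp hlt)) (not_le.mpr (negF_lt (half_le_simpF hT i)))
  obtain ⟨k, hk, e | ⟨r', N, N', hs0, hp', -, hs⟩⟩ := exists_gen hT r.2 (isPos_iff.mpr hpos)
  · exact ⟨⟨k, hk⟩, Fin.ext e⟩
  exfalso
  have hr' : r' < T.n := sum?_lt hT (neg_lt' (simple_lt hT hk)) r.2 hs0
  have hwi : w⁻¹ ∈ T.WP hT := inv_mem hw
  have hco : ∀ j < T.rank, T.co (w⁻¹ r).val j =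
      T.co (w⁻¹ (T.simpF hT ⟨k, hk⟩)).val j + T.co (w⁻¹ ⟨r', hr'⟩).val j := by
    intro j hj
    rw [WP_linear hT hwi r hj, WP_linear hT hwi (T.simpF hT ⟨k, hk⟩) hj, WP_linear hT hwi ⟨r', hr'⟩ hj,
      ← Finset.sum_add_distrib]
    refine Finset.sum_congr rfl fun m _ => ?_
    rw [← add_mul]
    congr 1
    exact co_sum hT (simple_lt hT hk) hr' hs m.2
  have hneg : ∀ s : Fin T.n, T.half ≤ s.val → (w⁻¹ s).val < T.half := by
    intro s hs'
    by_contra hge
    have := (hiff (w⁻¹ s)).mp (not_lt.mp hge)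
    rw [Equiv.Perm.inv_def, Equiv.apply_symm_apply] at this
    omega
  have e1 : w⁻¹ r = T.negF (T.simpF hT i) := w.symm_apply_apply _
  rw [e1] at hco
  have hsum := fun (j : Fin T.rank) => hco j j.2
  have ht : ∀ s : Fin T.n, s.val < T.half → ∑ j : Fin T.rank, T.co s.val j ≤ -1 := by
    intro s hs'
    have h1 := ht_pos hT (neg_lt' s.2) (isPos_iff.mpr (le_negF hs'))
    rw [Tbl.ht, list_sum_range] at h1
    simp only [co_neg hT s.2 (Fin.isLt _), Finset.sum_neg_distrib] at h1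
    omega
  have hA := ht _ (hneg _ (half_le_simpF hT ⟨k, hk⟩))
  have hB := ht _ (hneg ⟨r', hr'⟩ (isPos_iff.mp hp'))
  have hL : ∑ j : Fin T.rank, T.co (T.negF (T.simpF hT i)).val j = -1 := by
    rw [Finset.sum_eq_single i]
    · show T.co (T.neg (T.simple i)) i = -1
      rw [co_neg hT (simple_lt hT i.2) i.2, co_simple hT i.2 i.2, if_pos rfl]
    · intro j _ hj
      show T.co (T.neg (T.simple i)) j = 0
      rw [co_neg hT (simple_lt hT i.2) j.2, co_simple hT i.2 j.2, if_neg fun e => hj (Fin.ext e), neg_zero]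
    · simp
  rw [Finset.sum_congr rfl fun j _ => hsum j, Finset.sum_add_distrib] at hL
  omega

theorem exists_pos_perm {θ : MulAut ↥(T.datum.group F)} (h : Norm θ) :
    ∃ π : Fin T.rank → Fin T.rank, ∀ i,
      (RX T F (T.simpF hT i)).map θ.toMonoidHom = RX T F (T.simpF hT (π i)) := by
  obtain ⟨n0, w0, hw0, hm0, -, hiff, hUV, hVU⟩ := exists_n0 (F := F) hT
  have key : ∀ j, ∃ k, w0⁻¹ (T.simpF hT j) = T.negF (T.simpF hT k) := by
    intro j
    have hinv : ∀ s : Fin T.n, T.half ≤ s.val ↔ (w0⁻¹ s).val < T.half := fun s => by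
      have := hiff (w0⁻¹ s)
      rw [Equiv.Perm.inv_def, Equiv.apply_symm_apply] at this
      constructor <;> intro h' <;> by_contra hc
      · exact absurd (this.mp (not_lt.mp hc)) (not_lt.mpr h')
      · exact absurd (this.mpr (not_le.mp hc)) (not_le.mpr h')
    obtain ⟨k, hk⟩ := exists_simple_image hT (inv_mem hw0) hinv j
    refine ⟨k, ?_⟩
    rw [← hk, ← WP_negF hT (inv_mem hw0), negF_negF]
  set θ₃ : MulAut ↥(T.datum.group F) := MulAut.conj n0⁻¹ * θ * MulAut.conj n0 with hθ₃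
  have hcomp : ∀ H : Subgroup ↥(T.datum.group F), H.map θ₃.toMonoidHom =
      ((H.map (MulAut.conj n0).toMonoidHom).map θ.toMonoidHom).map (MulAut.conj n0⁻¹).toMonoidHom := by
    intro H
    rw [Subgroup.map_map, Subgroup.map_map]
    rfl
  have hback : ∀ H K : Subgroup ↥(T.datum.group F), H.map (MulAut.conj n0).toMonoidHom = K →
      K.map (MulAut.conj n0⁻¹).toMonoidHom = H := by
    rintro H _ rfl
    rw [← map_conj_mul, inv_mul_cancel, map_one]
    exact Subgroup.map_id _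
  have hN3 : Norm θ₃ :=
    ⟨by rw [hcomp, hUV, h.mapV, hback _ _ hUV], by rw [hcomp, hVU, h.mapU, hback _ _ hVU]⟩
  obtain ⟨π, hπ⟩ := exists_neg_perm hT hC hN3
  choose k hk using key
  have hk2 : ∀ m, ∃ j, w0 (T.negF (T.simpF hT m)) = T.simpF hT j := exists_simple_image hT hw0 hiff
  choose j hj using hk2
  refine ⟨fun i => j (π (k i)), fun i => ?_⟩
  have e := hπ (k i)
  rw [hcomp, map_conj_RX hT hm0, show w0 (T.negF (T.simpF hT (k i))) = T.simpF hT i by
    rw [← hk i]; exact w0.apply_symm_apply _] at e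
  have e2 := congrArg (Subgroup.map (MulAut.conj n0).toMonoidHom) e
  rw [← map_conj_mul, mul_inv_cancel, map_one, map_conj_RX hT hm0, hj] at e2
  rw [← e2]
  exact (Subgroup.map_id _).symm

end CfsgLib.KnownB.Aut
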