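import Cfsg.Agent.Lib.KnownB.Aut.Structure

/-!
The index of the diagonal and field parts for each table.
-/

set_option autoImplicit false
set_option maxRecDepth 100000
set_option Elab.async false

namespace CfsgLib.KnownB.Aut

open CfsgLib.Chevalley CfsgLib.Chevalley.Tbl

variable {T : Tbl} {F : Type*} [Field F] [Finite F]

theorem index_small (hT : T.Valid) (hC : T.chkComm = true) (P : Diag T) (hl : P.syms.length ≤ 2) :
    Nat.card (nodeHom (F := F) hT hC).range = 1 ∨ Nat.card (nodeHom (F := F) hT hC).range = 2 := by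
  have h1 := (card_range_le (F := F) hT hC P).trans hl
  have h2 : 0 < Nat.card (nodeHom (F := F) hT hC).range := Nat.card_pos
  omega

theorem d4_range : Nat.card (nodeHom (F := F) Data.D4.valid Data.D4.chkComm).range = 6 ∧
    ∃ a b : ↥(NS Data.D4.tbl F),
      nodeHom Data.D4.valid Data.D4.chkComm a * nodeHom Data.D4.valid Data.D4.chkComm b ≠
        nodeHom Data.D4.valid Data.D4.chkComm b * nodeHom Data.D4.valid Data.D4.chkComm a := by
  haveI := Fintype.ofFinite F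
  obtain ⟨p, hp⟩ := CharP.exists F
  haveI := hp
  haveI : Fact p.Prime := ⟨CharP.char_is_prime F p⟩
  obtain ⟨g, hgN, hg⟩ := graph_d4 (F := F) p
  obtain ⟨h, hhN, hh⟩ := flip_d4 (F := F) p
  have eg : nodeHom Data.D4.valid Data.D4.chkComm ⟨g, hgN⟩ = piD4 :=
    nodeHom_eq Data.D4.valid Data.D4.chkComm hg
  have eh : nodeHom Data.D4.valid Data.D4.chkComm ⟨h, hhN⟩ = flipPiD4 :=
    nodeHom_eq Data.D4.valid Data.D4.chkComm hh
  refine ⟨?_, ⟨g, hgN⟩, ⟨h, hhN⟩, by rw [eg, eh]; decide +kernel⟩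
  let R := (nodeHom (F := F) Data.D4.valid Data.D4.chkComm).range
  haveI : Fact (Nat.Prime 2) := ⟨Nat.prime_two⟩
  haveI : Fact (Nat.Prime 3) := ⟨Nat.prime_three⟩
  have o2 : orderOf flipPiD4 = 2 := orderOf_eq_prime (by decide +kernel) (by decide +kernel)
  have o3 : orderOf piD4 = 3 := orderOf_eq_prime (by decide +kernel) (by decide +kernel)
  have d2 : 2 ∣ Nat.card R := by
    rw [← o2, ← Subgroup.orderOf_mk (H := R) flipPiD4 ⟨_, eh⟩]; exact orderOf_dvd_natCard _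
  have d3 : 3 ∣ Nat.card R := by
    rw [← o3, ← Subgroup.orderOf_mk (H := R) piD4 ⟨_, eg⟩]; exact orderOf_dvd_natCard _
  have hle : Nat.card R ≤ 6 := card_range_le (F := F) Data.D4.valid Data.D4.chkComm diagD4
  have hpos : 0 < Nat.card R := Nat.card_pos
  have h6 : 6 ∣ Nat.card R := Nat.Coprime.mul_dvd_of_dvd_of_dvd (by norm_num) d2 d3
  exact le_antisymm hle (Nat.le_of_dvd hpos h6)

theorem structure_inst (D : Cfsg.Lie.ChevalleyDatum)
    (hD : D ∈ [Cfsg.Lie.chevG2, Cfsg.Lie.chevB2, Cfsg.Lie.chevD4, Cfsg.Lie.chevF4, Cfsg.Lie.chevE6,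
      Cfsg.Lie.chevE7, Cfsg.Lie.chevE8])
    (Dbar Fbar : Subgroup (Cfsg.Out ↥(D.group F)))
    (hDbar : Dbar = (Subgroup.closure {φ : MulAut ↥(D.group F) | D.IsDiagonalAut φ}).map
      (QuotientGroup.mk' (Cfsg.Inn ↥(D.group F))))
    (hFbar : Fbar = (Subgroup.closure {φ : MulAut ↥(D.group F) | D.IsFieldAut φ}).map
      (QuotientGroup.mk' (Cfsg.Inn ↥(D.group F)))) :
    Dbar.Normal ∧ IsMulCommutative ↥Dbar ∧ IsCyclic ↥Fbar ∧ (Dbar ⊔ Fbar).Normal ∧
      ((Dbar ⊔ Fbar).index = 1 ∨ (Dbar ⊔ Fbar).index = 2 ∨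
        ((Dbar ⊔ Fbar).index = 6 ∧ ¬ commutator (Cfsg.Out ↥(D.group F)) ≤ Dbar ⊔ Fbar)) := by
  have small : ∀ (T : Tbl) (hT : T.Valid) (hC : T.chkComm = true) (P : Diag T), T.datum = D →
      P.syms.length ≤ 2 →
      Dbar.Normal ∧ IsMulCommutative ↥Dbar ∧ IsCyclic ↥Fbar ∧ (Dbar ⊔ Fbar).Normal ∧
      ((Dbar ⊔ Fbar).index = 1 ∨ (Dbar ⊔ Fbar).index = 2 ∨
        ((Dbar ⊔ Fbar).index = 6 ∧ ¬ commutator (Cfsg.Out ↥(D.group F)) ≤ Dbar ⊔ Fbar)) := by
    intro T hT hC P e hl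
    subst e
    obtain ⟨a, b, c, d, hi, -⟩ := structure_out hT hC P Dbar Fbar hDbar hFbar
    refine ⟨a, b, c, d, ?_⟩
    rw [hi]
    exact (index_small hT hC P hl).imp_right Or.inl
  simp only [List.mem_cons, List.not_mem_nil, or_false] at hD
  rcases hD with rfl | rfl | rfl | rfl | rfl | rfl | rfl
  · exact small _ Data.G2.valid Data.G2.chkComm diagG2 Data.G2.datum_eq le_rfl
  · exact small _ Data.B2.valid Data.B2.chkComm diagB2 Data.B2.datum_eq le_rfl
  · revert Dbar Fbar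
    rw [← Data.D4.datum_eq]
    intro Dbar Fbar hDbar hFbar _
    obtain ⟨a, b, c, d, hi, hcomm⟩ :=
      structure_out Data.D4.valid Data.D4.chkComm diagD4 Dbar Fbar hDbar hFbar
    obtain ⟨h6, x, y, hxy⟩ := d4_range (F := F)
    exact ⟨a, b, c, d, Or.inr (Or.inr ⟨hi.trans h6, hcomm x y hxy⟩)⟩
  · exact small _ Data.F4.valid Data.F4.chkComm diagF4 Data.F4.datum_eq le_rfl
  · exact small _ Data.E6.valid Data.E6.chkComm diagE6 Data.E6.datum_eq le_rfl
  · exact small _ Data.E7.valid Data.E7.chkComm diagE7 Data.E7.datum_eq (by decide)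
  · exact small _ Data.E8.valid Data.E8.chkComm diagE8 Data.E8.datum_eq (by decide)

end CfsgLib.KnownB.Aut
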